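import Mathlib

/-!
The model of the projective plane of order 4 on a hyperoval and its fifteen synthemes.
-/

set_option autoImplicit false
set_option maxRecDepth 20000
set_option synthInstance.maxSize 4096

namespace CfsgLib.Combin.PlaneFourModel

/-- the fifteen fixed-point-free involutions of six symbols -/
def syn : Fin 15 → Fin 6 → Fin 6 :=
  ![![1, 0, 3, 2, 5, 4], ![1, 0, 4, 5, 2, 3], ![1, 0, 5, 4, 3, 2], ![2, 3, 0, 1, 5, 4],
    ![2, 4, 0, 5, 1, 3], ![2, 5, 0, 4, 3, 1], ![3, 2, 1, 0, 5, 4], ![3, 4, 5, 0, 1, 2],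
    ![3, 5, 4, 0, 2, 1], ![4, 2, 1, 5, 0, 3], ![4, 3, 5, 1, 0, 2], ![4, 5, 3, 2, 0, 1],
    ![5, 2, 1, 4, 3, 0], ![5, 3, 4, 1, 2, 0], ![5, 4, 3, 2, 1, 0]]

/-- the point belonging to a hyperoval symbol -/
def ovalPt (i : Fin 6) : Fin 21 := ⟨i.val, by omega⟩

/-- the point belonging to a syntheme -/
def synPt (k : Fin 15) : Fin 21 := ⟨6 + k.val, by omega⟩

/-- the 21 lines, as bit masks -/
def mask (l : Fin 21) : ℕ := ([451, 3589, 28681, 229393, 1835041, 299014, 590346, 1057810, 149538, 1179724, 540820, 74020, 264472, 33960, 4720, 345152, 567360, 402048, 1120384, 1098496, 660736] : List ℕ).getD l.val 0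

/-- incidence -/
def onLine (l : Fin 21) (x : Fin 21) : Bool := (mask l).testBit x.val

/-- a line as a set -/
def line (l : Fin 21) : Finset (Fin 21) := Finset.univ.filter fun x => onLine l x = true

/-- the set of lines -/
def lines : Set (Finset (Fin 21)) := Set.range line

theorem card_line : ∀ l : Fin 21, (line l).card = 5 := by decide +kernel

theorem two_points : ∀ l m : Fin 21, l ≠ m →
    ∀ x : Fin 21, onLine l x = true → onLine m x = true →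
    ∀ y : Fin 21, onLine l y = true → onLine m y = true → x = y := by
  decide +kernel

theorem secant : ∀ i j : Fin 6, i ≠ j → ∃ l : Fin 21, onLine l (ovalPt i) = true ∧
    onLine l (ovalPt j) = true ∧ ∀ k : Fin 15, syn k i = j → onLine l (synPt k) = true := by
  decide +kernel

theorem five_clique :
    ∀ a b : Fin 15, a < b → (∀ i, syn a i ≠ syn b i) →
    ∀ c : Fin 15, b < c → (∀ i, syn a i ≠ syn c i) → (∀ i, syn b i ≠ syn c i) →
    ∀ d : Fin 15, c < d → (∀ i, syn a i ≠ syn d i) → (∀ i, syn b i ≠ syn d i) →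
      (∀ i, syn c i ≠ syn d i) →
    ∀ e : Fin 15, d < e → (∀ i, syn a i ≠ syn e i) → (∀ i, syn b i ≠ syn e i) →
      (∀ i, syn c i ≠ syn e i) → (∀ i, syn d i ≠ syn e i) →
    ∃ l : Fin 21, onLine l (synPt a) = true ∧ onLine l (synPt b) = true ∧
      onLine l (synPt c) = true ∧ onLine l (synPt d) = true ∧ onLine l (synPt e) = true := by
  decide +kernel

theorem syn_complete :
    ∀ a : Fin 6, a ≠ 0 →
    ∀ b : Fin 6, b ≠ 1 → b ≠ a → (a = 1 ↔ b = 0) →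
    ∀ c : Fin 6, c ≠ 2 → c ≠ a → c ≠ b → (a = 2 ↔ c = 0) → (b = 2 ↔ c = 1) →
    ∀ d : Fin 6, d ≠ 3 → d ≠ a → d ≠ b → d ≠ c →
      (a = 3 ↔ d = 0) → (b = 3 ↔ d = 1) → (c = 3 ↔ d = 2) →
    ∀ e : Fin 6, e ≠ 4 → e ≠ a → e ≠ b → e ≠ c → e ≠ d →
      (a = 4 ↔ e = 0) → (b = 4 ↔ e = 1) → (c = 4 ↔ e = 2) → (d = 4 ↔ e = 3) →
    ∀ f : Fin 6, f ≠ 5 → f ≠ a → f ≠ b → f ≠ c → f ≠ d → f ≠ e →
      (a = 5 ↔ f = 0) → (b = 5 ↔ f = 1) → (c = 5 ↔ f = 2) → (d = 5 ↔ f = 3) → (e = 5 ↔ f = 4) →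
    ∃ k : Fin 15, syn k 0 = a ∧ syn k 1 = b ∧ syn k 2 = c ∧ syn k 3 = d ∧ syn k 4 = e ∧
      syn k 5 = f := by
  decide +kernel

/-- every fixed-point-free involution of six symbols is one of the fifteen synthemes -/
theorem exists_syn (m : Fin 6 → Fin 6) (h₁ : ∀ i, m i ≠ i) (h₂ : ∀ i, m (m i) = i) :
    ∃ k, syn k = m := by
  have hi : ∀ i j : Fin 6, i ≠ j → m i ≠ m j := fun i j h h' => h (by rw [← h₂ i, h', h₂])
  have hf : ∀ i j : Fin 6, (m i = j ↔ m j = i) :=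
    fun i j => ⟨fun h => by rw [← h, h₂], fun h => by rw [← h, h₂]⟩
  obtain ⟨k, q⟩ := syn_complete (m 0) (h₁ 0)
    (m 1) (h₁ 1) (hi 1 0 (by decide)) (hf 0 1)
    (m 2) (h₁ 2) (hi 2 0 (by decide)) (hi 2 1 (by decide)) (hf 0 2) (hf 1 2)
    (m 3) (h₁ 3) (hi 3 0 (by decide)) (hi 3 1 (by decide)) (hi 3 2 (by decide))
      (hf 0 3) (hf 1 3) (hf 2 3)
    (m 4) (h₁ 4) (hi 4 0 (by decide)) (hi 4 1 (by decide)) (hi 4 2 (by decide)) (hi 4 3 (by decide))
      (hf 0 4) (hf 1 4) (hf 2 4) (hf 3 4)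
    (m 5) (h₁ 5) (hi 5 0 (by decide)) (hi 5 1 (by decide)) (hi 5 2 (by decide)) (hi 5 3 (by decide))
      (hi 5 4 (by decide)) (hf 0 5) (hf 1 5) (hf 2 5) (hf 3 5) (hf 4 5)
  obtain ⟨q0, q1, q2, q3, q4, q5⟩ := q
  refine ⟨k, funext fun i => ?_⟩
  fin_cases i <;> assumption

theorem syn_injective : Function.Injective syn := by
  have h : ∀ a b : Fin 15, (∀ i, syn a i = syn b i) → a = b := by decide +kernel
  exact fun a b hab => h a b (congrFun hab)

end CfsgLib.Combin.PlaneFourModel
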