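import Mathlib
import Cfsg.Prelude.Def_Sporadic_a

/-!
Double counting in Steiner systems.
-/

set_option autoImplicit false

namespace CfsgLib.Combin.SteinerCount

variable {α : Type*} [Fintype α] [DecidableEq α]

/-- blocks of `B` containing `T`, as a finset -/
noncomputable def blocksThrough (B : Set (Finset α)) (T : Finset α) : Finset (Finset α) :=
  (Set.toFinite {b | b ∈ B ∧ T ⊆ b}).toFinset

theorem mem_blocksThrough {B : Set (Finset α)} {T b : Finset α} :
    b ∈ blocksThrough B T ↔ b ∈ B ∧ T ⊆ b := by
  simp [blocksThrough]

/-- double counting of the `t`-sets through `T` -/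
theorem card_blocksThrough_mul {t k : ℕ} {B : Set (Finset α)}
    (hB : Cfsg.IsSteinerSystem t k B) (T : Finset α) (hT : T.card ≤ t) :
    (blocksThrough B T).card * (k - T.card).choose (t - T.card) =
      (Fintype.card α - T.card).choose (t - T.card) := by
  classical
  have h1 : (Finset.univ \ T).powersetCard (t - T.card) =
      (blocksThrough B T).biUnion (fun b => (b \ T).powersetCard (t - T.card)) := by
    ext R
    simp only [Finset.mem_powersetCard, Finset.mem_biUnion, mem_blocksThrough]
    constructor
    · rintro ⟨hR, hc⟩
      have hd : Disjoint T R := Finset.disjoint_right.2 fun a ha => (Finset.mem_sdiff.1 (hR ha)).2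
      obtain ⟨b, ⟨hb, hsub⟩, -⟩ := hB.2 (T ∪ R) (by rw [Finset.card_union_of_disjoint hd]; omega)
      refine ⟨b, ⟨hb, Finset.subset_union_left.trans hsub⟩, ?_, hc⟩
      intro a ha
      exact Finset.mem_sdiff.2 ⟨hsub (Finset.mem_union_right _ ha), (Finset.mem_sdiff.1 (hR ha)).2⟩
    · rintro ⟨b, -, hR, hc⟩
      exact ⟨fun a ha => Finset.mem_sdiff.2 ⟨Finset.mem_univ _, (Finset.mem_sdiff.1 (hR ha)).2⟩, hc⟩
  have h2 : ∀ b ∈ blocksThrough B T, ((b \ T).powersetCard (t - T.card)).card =
      (k - T.card).choose (t - T.card) := by
    intro b hb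
    rw [mem_blocksThrough] at hb
    rw [Finset.card_powersetCard, Finset.card_sdiff_of_subset hb.2, hB.1 b hb.1]
  have h3 : Set.PairwiseDisjoint ((blocksThrough B T : Finset (Finset α)) : Set (Finset α))
      (fun b => (b \ T).powersetCard (t - T.card)) := by
    intro b hb b' hb' hne
    rw [Function.onFun, Finset.disjoint_left]
    intro R hR hR'
    rw [Finset.mem_coe, mem_blocksThrough] at hb hb'
    rw [Finset.mem_powersetCard] at hR hR'
    have hd : Disjoint T R := Finset.disjoint_right.2 fun a ha => (Finset.mem_sdiff.1 (hR.1 ha)).2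
    obtain ⟨c, -, hu⟩ := hB.2 (T ∪ R) (by rw [Finset.card_union_of_disjoint hd]; omega)
    apply hne
    have e1 := hu b ⟨hb.1, Finset.union_subset hb.2 (hR.1.trans Finset.sdiff_subset)⟩
    have e2 := hu b' ⟨hb'.1, Finset.union_subset hb'.2 (hR'.1.trans Finset.sdiff_subset)⟩
    rw [e1, e2]
  have h4 := congrArg Finset.card h1
  rw [Finset.card_powersetCard, Finset.card_biUnion h3, Finset.sum_congr rfl h2,
    Finset.sum_const, smul_eq_mul, Finset.card_sdiff_of_subset (Finset.subset_univ _),
    Finset.card_univ] at h4
  exact h4.symm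

/-- blocks through `T` avoiding one further point -/
theorem card_blocksThrough_split {B : Set (Finset α)} (T : Finset α) (a : α) :
    (blocksThrough B T).card = (blocksThrough B (insert a T)).card +
      ((blocksThrough B T).filter (fun b => a ∉ b)).card := by
  have : blocksThrough B (insert a T) = (blocksThrough B T).filter (fun b => a ∈ b) := by
    ext b
    simp only [mem_blocksThrough, Finset.mem_filter, Finset.insert_subset_iff]
    tauto
  rw [this]
  exact (Finset.card_filter_add_card_filter_not _).symm

/-- A set with more blocks through it than through any one-point extension has a block avoiding it -/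
theorem exists_block_through_avoiding {B : Set (Finset α)} (T : Finset α) (a : α)
    (h : (blocksThrough B (insert a T)).card < (blocksThrough B T).card) :
    ∃ b ∈ B, T ⊆ b ∧ a ∉ b := by
  have := card_blocksThrough_split (B := B) T a
  obtain ⟨b, hb⟩ := Finset.card_pos.1
    (show 0 < ((blocksThrough B T).filter (fun b => a ∉ b)).card by omega)
  rw [Finset.mem_filter, mem_blocksThrough] at hb
  exact ⟨b, hb.1.1, hb.1.2, hb.2⟩

/-- The parameters of S(5,8,24): blocks through an i-set -/
theorem card_blocksThrough_five_eight {B : Set (Finset α)} (hα : Fintype.card α = 24)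
    (hB : Cfsg.IsSteinerSystem 5 8 B) (T : Finset α) (hT : T.card ≤ 5) :
    (blocksThrough B T).card = [759, 253, 77, 21, 5, 1].getD T.card 0 := by
  have h := card_blocksThrough_mul hB T hT
  rw [hα] at h
  generalize (blocksThrough B T).card = n at h ⊢
  generalize T.card = i at h hT ⊢
  interval_cases i <;> norm_num [Nat.choose] at h ⊢ <;> omega

end CfsgLib.Combin.SteinerCount
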