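import Mathlib
import Cfsg.Prelude.Def_Sporadic_a
import Cfsg.Agent.Lib.Combin.SteinerCount
import Cfsg.Agent.Lib.Combin.PlaneFourModel

/-!
Projective planes of order 4: hyperovals and coordinates.
-/

set_option autoImplicit false

namespace CfsgLib.Combin.PlaneFour

open CfsgLib.Combin
open scoped Pointwise

variable {α : Type*} [Fintype α] [DecidableEq α]

/-- a projective plane of order 4 -/
structure IsPlane (L : Set (Finset α)) : Prop where
  card : Fintype.card α = 21
  steiner : Cfsg.IsSteinerSystem 2 5 L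

/-- no line meets the set in more than two points -/
def Indep (L : Set (Finset α)) (S : Finset α) : Prop := ∀ l ∈ L, (l ∩ S).card ≤ 2

variable {L : Set (Finset α)}

theorem line_exists (hP : IsPlane L) {a b : α} (h : a ≠ b) : ∃ l ∈ L, a ∈ l ∧ b ∈ l := by
  obtain ⟨l, ⟨hl, hs⟩, -⟩ := hP.steiner.2 {a, b} (Finset.card_pair h)
  exact ⟨l, hl, hs (by simp), hs (by simp)⟩

theorem line_eq (hP : IsPlane L) {a b : α} (h : a ≠ b) {l m : Finset α} (hl : l ∈ L) (hm : m ∈ L)
    (hal : a ∈ l) (hbl : b ∈ l) (ham : a ∈ m) (hbm : b ∈ m) : l = m := by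
  obtain ⟨n, -, hu⟩ := hP.steiner.2 {a, b} (Finset.card_pair h)
  rw [hu l ⟨hl, by simp [Finset.insert_subset_iff, hal, hbl]⟩,
    hu m ⟨hm, by simp [Finset.insert_subset_iff, ham, hbm]⟩]

theorem inter_card_le_one (hP : IsPlane L) {l m : Finset α} (hl : l ∈ L) (hm : m ∈ L) (h : l ≠ m) :
    (l ∩ m).card ≤ 1 := by
  rw [Finset.card_le_one]
  intro a ha b hb
  rw [Finset.mem_inter] at ha hb
  by_contra hab
  exact h (line_eq hP hab hl hm ha.1 hb.1 ha.2 hb.2)

/-- the lines through a point -/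
noncomputable def pencil (L : Set (Finset α)) (a : α) : Finset (Finset α) :=
  SteinerCount.blocksThrough L {a}

theorem mem_pencil {a : α} {l : Finset α} : l ∈ pencil L a ↔ l ∈ L ∧ a ∈ l := by
  simp [pencil, SteinerCount.mem_blocksThrough]

theorem card_pencil (hP : IsPlane L) (a : α) : (pencil L a).card = 5 := by
  have h := SteinerCount.card_blocksThrough_mul hP.steiner {a} (by simp)
  simp [hP.card] at h
  unfold pencil
  omega

theorem meet (hP : IsPlane L) {l m : Finset α} (hl : l ∈ L) (hm : m ∈ L) : ∃ x, x ∈ l ∧ x ∈ m := by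
  classical
  obtain ⟨p, hp⟩ := Finset.card_pos.1 (by rw [hP.steiner.1 m hm]; norm_num : 0 < m.card)
  by_cases hpl : p ∈ l
  · exact ⟨p, hpl, hp⟩
  have h : ∀ x ∈ l, ∃ n, n ∈ L ∧ p ∈ n ∧ x ∈ n := fun x hx =>
    line_exists hP (fun h => hpl (h ▸ hx))
  choose! f hf using h
  have hinj : Set.InjOn f l := by
    intro x hx y hy hxy
    by_contra hne
    have e := line_eq hP hne (hf x hx).1 hl (hf x hx).2.2 (hxy.symm ▸ (hf y hy).2.2) hx hy
    exact hpl (e ▸ (hf x hx).2.1)
  have hsub : l.image f ⊆ pencil L p := by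
    intro n hn
    obtain ⟨x, hx, rfl⟩ := Finset.mem_image.1 hn
    exact mem_pencil.2 ⟨(hf x hx).1, (hf x hx).2.1⟩
  have heq : l.image f = pencil L p := Finset.eq_of_subset_of_card_le hsub
    (by rw [card_pencil hP, Finset.card_image_of_injOn hinj, hP.steiner.1 l hl])
  obtain ⟨x, hx, hxm⟩ := Finset.mem_image.1 (heq.symm ▸ mem_pencil.2 ⟨hm, hp⟩ : m ∈ l.image f)
  exact ⟨x, hx, hxm ▸ (hf x hx).2.2⟩

theorem inter_eq_singleton (hP : IsPlane L) {l m : Finset α} (hl : l ∈ L) (hm : m ∈ L) (h : l ≠ m)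
    {a : α} (hal : a ∈ l) (ham : a ∈ m) : l ∩ m = {a} := by
  refine Finset.eq_singleton_iff_unique_mem.2 ⟨Finset.mem_inter.2 ⟨hal, ham⟩, fun x hx => ?_⟩
  exact Finset.card_le_one.1 (inter_card_le_one hP hl hm h) x hx a (Finset.mem_inter.2 ⟨hal, ham⟩)

theorem indep_of_subset {S T : Finset α} (hS : Indep L S) (h : T ⊆ S) : Indep L T := fun l hl =>
  (Finset.card_le_card (Finset.inter_subset_inter (Finset.Subset.refl l) h)).trans (hS l hl)

theorem indep_not_mem {S : Finset α} (hS : Indep L S) {a b c : α} (ha : a ∈ S) (hb : b ∈ S)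
    (hc : c ∈ S) (hab : a ≠ b) (hac : a ≠ c) (hbc : b ≠ c) {l : Finset α} (hl : l ∈ L) (hal : a ∈ l)
    (hbl : b ∈ l) : c ∉ l := by
  intro hcl
  have h : ({a, b, c} : Finset α) ⊆ l ∩ S := by
    simp [Finset.insert_subset_iff, ha, hb, hc, hal, hbl, hcl]
  have h2 := (Finset.card_le_card h).trans (hS l hl)
  rw [Finset.card_eq_three.2 ⟨a, b, c, hab, hac, hbc, rfl⟩] at h2
  omega

/-- the points outside `S` that can be added to it keeping it independent -/
noncomputable def ext (L : Set (Finset α)) (S : Finset α) : Finset α :=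
  (Set.toFinite {p | p ∉ S ∧ Indep L (insert p S)}).toFinset

theorem mem_ext {S : Finset α} {p : α} : p ∈ ext L S ↔ p ∉ S ∧ Indep L (insert p S) := by
  simp [ext]

theorem mem_ext_iff {S : Finset α} (hS : Indep L S) {p : α} :
    p ∈ ext L S ↔ p ∉ S ∧ ∀ a ∈ S, ∀ b ∈ S, a ≠ b → ∀ l ∈ L, a ∈ l → b ∈ l → p ∉ l := by
  rw [mem_ext]
  refine and_congr_right fun hp => ⟨fun h a ha b hb hab l hl hal hbl => ?_, fun h l hl => ?_⟩
  · exact indep_not_mem h (Finset.mem_insert_of_mem ha) (Finset.mem_insert_of_mem hb)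
      (Finset.mem_insert_self _ _) hab (fun e => hp (e ▸ ha)) (fun e => hp (e ▸ hb)) hl hal hbl
  · by_cases hpl : p ∈ l
    · rw [Finset.inter_insert_of_mem hpl, Finset.card_insert_of_notMem (fun e => hp (Finset.mem_inter.1 e).2)]
      have : (l ∩ S).card ≤ 1 := by
        rw [Finset.card_le_one]
        intro a ha b hb
        rw [Finset.mem_inter] at ha hb
        by_contra hab
        exact h a ha.2 b hb.2 hab l hl ha.1 hb.1 hpl
      omega
    · rw [Finset.inter_insert_of_notMem hpl]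
      exact hS l hl

theorem card_ext_pair (hP : IsPlane L) {a b : α} (hab : a ≠ b) :
    (ext L {a, b}).card = 16 := by
  obtain ⟨l, hl, hal, hbl⟩ := line_exists hP hab
  have hI : Indep L {a, b} := fun m hm =>
    (Finset.card_le_card Finset.inter_subset_right).trans Finset.card_le_two
  have h : ext L {a, b} = lᶜ := by
    ext p
    rw [mem_ext_iff hI, Finset.mem_compl]
    simp only [Finset.mem_insert, Finset.mem_singleton]
    constructor
    · rintro ⟨-, h2⟩
      exact h2 a (Or.inl rfl) b (Or.inr rfl) hab l hl hal hbl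
    · intro hp
      refine ⟨by rintro (rfl | rfl) <;> contradiction, ?_⟩
      rintro x hx y hy hxy m hm hxm hym
      rw [line_eq hP hxy hm hl hxm hym (by rcases hx with rfl | rfl <;> assumption)
        (by rcases hy with rfl | rfl <;> assumption)]
      exact hp
  rw [h, Finset.card_compl, hP.card, hP.steiner.1 l hl]

theorem card_triangle (hP : IsPlane L) {a b c : α} {lab lac lbc : Finset α}
    (h1 : lab ∈ L) (h2 : lac ∈ L) (h3 : lbc ∈ L) (ha1 : a ∈ lab) (hb1 : b ∈ lab)
    (ha2 : a ∈ lac) (hc2 : c ∈ lac) (hb3 : b ∈ lbc) (hc3 : c ∈ lbc)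
    (hna : a ∉ lbc) (hnb : b ∉ lac) (hnc : c ∉ lab) :
    ((lab ∪ lac) ∪ lbc).card = 12 := by
  have hbc : b ≠ c := by rintro rfl; exact hnc hb1
  have e12 : lab ≠ lac := fun e => hnc (e ▸ hc2)
  have e13 : lab ≠ lbc := fun e => hna (e ▸ ha1)
  have e23 : lac ≠ lbc := fun e => hna (e ▸ ha2)
  have h9 := Finset.card_union_add_card_inter lab lac
  rw [inter_eq_singleton hP h1 h2 e12 ha1 ha2, hP.steiner.1 _ h1, hP.steiner.1 _ h2,
    Finset.card_singleton] at h9
  have h12 := Finset.card_union_add_card_inter (lab ∪ lac) lbc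
  rw [Finset.union_inter_distrib_right, inter_eq_singleton hP h1 h3 e13 hb1 hb3,
    inter_eq_singleton hP h2 h3 e23 hc2 hc3, hP.steiner.1 _ h3, ← Finset.insert_eq,
    Finset.card_pair hbc] at h12
  omega

theorem card_ext_triangle (hP : IsPlane L) {S : Finset α} (hS : S.card = 3) (hI : Indep L S) :
    (ext L S).card = 9 := by
  obtain ⟨a, b, c, hab, hac, hbc, rfl⟩ := Finset.card_eq_three.1 hS
  obtain ⟨lab, h1, ha1, hb1⟩ := line_exists hP hab
  obtain ⟨lac, h2, ha2, hc2⟩ := line_exists hP hac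
  obtain ⟨lbc, h3, hb3, hc3⟩ := line_exists hP hbc
  have ma : a ∈ ({a, b, c} : Finset α) := by simp
  have mb : b ∈ ({a, b, c} : Finset α) := by simp
  have mc : c ∈ ({a, b, c} : Finset α) := by simp
  have hnc := indep_not_mem hI ma mb mc hab hac hbc h1 ha1 hb1
  have hnb := indep_not_mem hI ma mc mb hac hab hbc.symm h2 ha2 hc2
  have hna := indep_not_mem hI mb mc ma hbc hab.symm hac.symm h3 hb3 hc3
  have h : ext L {a, b, c} = ((lab ∪ lac) ∪ lbc)ᶜ := by
    ext p
    rw [mem_ext_iff hI]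
    simp only [Finset.mem_insert, Finset.mem_singleton, Finset.mem_compl, Finset.mem_union, not_or]
    constructor
    · rintro ⟨-, h⟩
      exact ⟨⟨h a (by simp) b (by simp) hab lab h1 ha1 hb1, h a (by simp) c (by simp) hac lac h2 ha2 hc2⟩,
        h b (by simp) c (by simp) hbc lbc h3 hb3 hc3⟩
    · rintro ⟨⟨p1, p2⟩, p3⟩
      refine ⟨⟨fun e => p1 (e.symm ▸ ha1), fun e => p1 (e.symm ▸ hb1), fun e => p2 (e.symm ▸ hc2)⟩, ?_⟩
      rintro x hx y hy hxy m hm hxm hym hpm
      rcases hx with rfl | rfl | rfl <;> rcases hy with rfl | rfl | rfl <;>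
        first
        | exact hxy rfl
        | exact p1 (line_eq hP hxy hm h1 hxm hym (by assumption) (by assumption) ▸ hpm)
        | exact p2 (line_eq hP hxy hm h2 hxm hym (by assumption) (by assumption) ▸ hpm)
        | exact p3 (line_eq hP hxy hm h3 hxm hym (by assumption) (by assumption) ▸ hpm)
  rw [h, Finset.card_compl, hP.card, card_triangle hP h1 h2 h3 ha1 hb1 ha2 hc2 hb3 hc3 hna hnb hnc]

theorem ext_quad_aux (hP : IsPlane L) {S : Finset α} (hS : S.card = 4) (hI : Indep L S)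
    {a : α} (ha : a ∈ S) :
    (ext L S).card = 2 ∧ ∀ m ∈ L, a ∈ m → ((ext L S).filter (· ∈ m)).card ≤ 1 := by
  obtain ⟨b, c, d, hbc, hbd, hcd, hbcd⟩ := Finset.card_eq_three.1
    (show (S.erase a).card = 3 by rw [Finset.card_erase_of_mem ha, hS])
  have hSeq : S = {a, b, c, d} := by rw [← hbcd, Finset.insert_erase ha]
  subst hSeq
  have ⟨hab, hac, had⟩ : a ≠ b ∧ a ≠ c ∧ a ≠ d := by
    have : a ∉ ({b, c, d} : Finset α) := hbcd ▸ Finset.notMem_erase _ _
    simpa using this
  obtain ⟨lab, h1, ha1, hb1⟩ := line_exists hP hab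
  obtain ⟨lac, h2, ha2, hc2⟩ := line_exists hP hac
  obtain ⟨lad, h3, ha3, hd3⟩ := line_exists hP had
  obtain ⟨lbc, h4, hb4, hc4⟩ := line_exists hP hbc
  obtain ⟨lbd, h5, hb5, hd5⟩ := line_exists hP hbd
  obtain ⟨lcd, h6, hc6, hd6⟩ := line_exists hP hcd
  have ma : a ∈ ({a, b, c, d} : Finset α) := by simp
  have mb : b ∈ ({a, b, c, d} : Finset α) := by simp
  have mc : c ∈ ({a, b, c, d} : Finset α) := by simp
  have md : d ∈ ({a, b, c, d} : Finset α) := by simp
  have n1c := indep_not_mem hI ma mb mc hab hac hbc h1 ha1 hb1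
  have n1d := indep_not_mem hI ma mb md hab had hbd h1 ha1 hb1
  have n2b := indep_not_mem hI ma mc mb hac hab hbc.symm h2 ha2 hc2
  have n2d := indep_not_mem hI ma mc md hac had hcd h2 ha2 hc2
  have n3b := indep_not_mem hI ma md mb had hab hbd.symm h3 ha3 hd3
  have n3c := indep_not_mem hI ma md mc had hac hcd.symm h3 ha3 hd3
  have n4a := indep_not_mem hI mb mc ma hbc hab.symm hac.symm h4 hb4 hc4
  have n4d := indep_not_mem hI mb mc md hbc hbd hcd h4 hb4 hc4
  have n5a := indep_not_mem hI mb md ma hbd hab.symm had.symm h5 hb5 hd5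
  have n5c := indep_not_mem hI mb md mc hbd hbc hcd.symm h5 hb5 hd5
  have n6a := indep_not_mem hI mc md ma hcd hac.symm had.symm h6 hc6 hd6
  have n6b := indep_not_mem hI mc md mb hcd hbc.symm hbd.symm h6 hc6 hd6
  obtain ⟨p, hp1, hp6⟩ := meet hP h1 h6
  obtain ⟨q, hq2, hq5⟩ := meet hP h2 h5
  obtain ⟨r, hr3, hr4⟩ := meet hP h3 h4
  have i12 := inter_eq_singleton hP h1 h2 (fun e => n1c (e ▸ hc2)) ha1 ha2
  have i13 := inter_eq_singleton hP h1 h3 (fun e => n1d (e ▸ hd3)) ha1 ha3
  have i23 := inter_eq_singleton hP h2 h3 (fun e => n2d (e ▸ hd3)) ha2 ha3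
  have i14 := inter_eq_singleton hP h1 h4 (fun e => n1c (e ▸ hc4)) hb1 hb4
  have i15 := inter_eq_singleton hP h1 h5 (fun e => n1d (e ▸ hd5)) hb1 hb5
  have i16 := inter_eq_singleton hP h1 h6 (fun e => n1c (e ▸ hc6)) hp1 hp6
  have i24 := inter_eq_singleton hP h2 h4 (fun e => n2b (e ▸ hb4)) hc2 hc4
  have i25 := inter_eq_singleton hP h2 h5 (fun e => n2b (e ▸ hb5)) hq2 hq5
  have i26 := inter_eq_singleton hP h2 h6 (fun e => n2d (e ▸ hd6)) hc2 hc6
  have i34 := inter_eq_singleton hP h3 h4 (fun e => n3b (e ▸ hb4)) hr3 hr4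
  have i35 := inter_eq_singleton hP h3 h5 (fun e => n3b (e ▸ hb5)) hd3 hd5
  have i36 := inter_eq_singleton hP h3 h6 (fun e => n3c (e ▸ hc6)) hd3 hd6
  set A := (lab ∪ lac) ∪ lad with hA
  set B := (lbc ∪ lbd) ∪ lcd with hB
  have cB : B.card = 12 :=
    card_triangle hP h4 h5 h6 hb4 hc4 hb5 hd5 hc6 hd6 n6b n5c n4d
  have cA : A.card = 13 := by
    have h9 := Finset.card_union_add_card_inter lab lac
    rw [i12, hP.steiner.1 _ h1, hP.steiner.1 _ h2, Finset.card_singleton] at h9
    have h13 := Finset.card_union_add_card_inter (lab ∪ lac) lad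
    rw [Finset.union_inter_distrib_right, i13, i23, hP.steiner.1 _ h3, Finset.union_self,
      Finset.card_singleton] at h13
    rw [hA]
    omega
  have cAB : A ∩ B = {b, p, c, q, d, r} := by
    ext x
    simp only [hA, hB, Finset.union_inter_distrib_right, Finset.inter_union_distrib_left,
      i14, i15, i16, i24, i25, i26, i34, i35, i36, Finset.mem_union, Finset.mem_singleton,
      Finset.mem_insert]
    tauto
  have cAB' : (A ∩ B).card = 6 := by
    have uA : ∀ x, x ∈ lab → x ∈ lac → x = a := fun x u v => by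
      have : x ∈ lab ∩ lac := Finset.mem_inter.2 ⟨u, v⟩
      rwa [i12, Finset.mem_singleton] at this
    have uB : ∀ x, x ∈ lab → x ∈ lad → x = a := fun x u v => by
      have : x ∈ lab ∩ lad := Finset.mem_inter.2 ⟨u, v⟩
      rwa [i13, Finset.mem_singleton] at this
    have uC : ∀ x, x ∈ lac → x ∈ lad → x = a := fun x u v => by
      have : x ∈ lac ∩ lad := Finset.mem_inter.2 ⟨u, v⟩
      rwa [i23, Finset.mem_singleton] at this
    have d1 : b ≠ p := fun e => n6b (e.symm ▸ hp6)
    have d2 : b ≠ q := fun e => n2b (e.symm ▸ hq2)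
    have d3 : b ≠ r := fun e => n3b (e.symm ▸ hr3)
    have d4 : p ≠ c := fun e => n1c (e ▸ hp1)
    have d5 : p ≠ d := fun e => n1d (e ▸ hp1)
    have d6 : p ≠ q := fun e => n6a (uA p hp1 (e.symm ▸ hq2) ▸ hp6)
    have d7 : p ≠ r := fun e => n6a (uB p hp1 (e.symm ▸ hr3) ▸ hp6)
    have d8 : c ≠ q := fun e => n5c (e.symm ▸ hq5)
    have d9 : c ≠ r := fun e => n3c (e.symm ▸ hr3)
    have d10 : q ≠ d := fun e => n2d (e ▸ hq2)
    have d11 : q ≠ r := fun e => n5a (uC q hq2 (e.symm ▸ hr3) ▸ hq5)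
    have d12 : d ≠ r := fun e => n4d (e.symm ▸ hr4)
    rw [cAB]
    simp [d1, d2, d3, d4, d5, d6, d7, d8, d9, d10, d11, d12, hbc, hbd, hcd]
  have cU : (A ∪ B).card = 19 := by
    have := Finset.card_union_add_card_inter A B
    omega
  have h : ext L {a, b, c, d} = (A ∪ B)ᶜ := by
    ext x
    rw [mem_ext_iff hI]
    simp only [hA, hB, Finset.mem_insert, Finset.mem_singleton, Finset.mem_compl, Finset.mem_union,
      not_or]
    constructor
    · rintro ⟨-, h⟩
      exact ⟨⟨⟨h a (by simp) b (by simp) hab lab h1 ha1 hb1, h a (by simp) c (by simp) hac lac h2 ha2 hc2⟩,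
        h a (by simp) d (by simp) had lad h3 ha3 hd3⟩,
        ⟨h b (by simp) c (by simp) hbc lbc h4 hb4 hc4, h b (by simp) d (by simp) hbd lbd h5 hb5 hd5⟩,
        h c (by simp) d (by simp) hcd lcd h6 hc6 hd6⟩
    · rintro ⟨⟨⟨p1, p2⟩, p3⟩, ⟨p4, p5⟩, p6⟩
      refine ⟨⟨fun e => p1 (e.symm ▸ ha1), fun e => p1 (e.symm ▸ hb1), fun e => p2 (e.symm ▸ hc2),
        fun e => p3 (e.symm ▸ hd3)⟩, ?_⟩
      rintro u hu v hv huv m hm hum hvm hxm
      rcases hu with rfl | rfl | rfl | rfl <;> rcases hv with rfl | rfl | rfl | rfl <;>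
        first
        | exact huv rfl
        | exact p1 (line_eq hP huv hm h1 hum hvm (by assumption) (by assumption) ▸ hxm)
        | exact p2 (line_eq hP huv hm h2 hum hvm (by assumption) (by assumption) ▸ hxm)
        | exact p3 (line_eq hP huv hm h3 hum hvm (by assumption) (by assumption) ▸ hxm)
        | exact p4 (line_eq hP huv hm h4 hum hvm (by assumption) (by assumption) ▸ hxm)
        | exact p5 (line_eq hP huv hm h5 hum hvm (by assumption) (by assumption) ▸ hxm)
        | exact p6 (line_eq hP huv hm h6 hum hvm (by assumption) (by assumption) ▸ hxm)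
  refine ⟨by rw [h, Finset.card_compl, hP.card, cU], fun m hm ham => ?_⟩
  rw [h, Finset.card_le_one]
  intro e he f hf
  rw [Finset.mem_filter, Finset.mem_compl] at he hf
  by_contra hef
  have hmA : m ≠ lab ∧ m ≠ lac ∧ m ≠ lad := by
    refine ⟨?_, ?_, ?_⟩ <;> rintro rfl <;>
      exact he.1 (Finset.mem_union_left _ (by simp [hA, he.2]))
  obtain ⟨n, hn, hn'⟩ : ∃ n ∈ pencil L a, n ∉ ({lab, lac, lad, m} : Finset (Finset α)) := by
    refine Finset.exists_mem_notMem_of_card_lt_card (lt_of_le_of_lt Finset.card_le_four ?_)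
    rw [card_pencil hP]; norm_num
  rw [mem_pencil] at hn
  simp only [Finset.mem_insert, Finset.mem_singleton, not_or] at hn'
  have hsub : n.erase a ⊆ (n ∩ lbc) ∪ (n ∩ lbd) ∪ (n ∩ lcd) := by
    intro x hx
    obtain ⟨hxa, hxn⟩ := Finset.mem_erase.1 hx
    have hxA : x ∉ A := by
      intro hxA
      simp only [hA, Finset.mem_union] at hxA
      rcases hxA with (hh | hh) | hh
      · exact hn'.1 (line_eq hP hxa hn.1 h1 hxn hn.2 hh ha1)
      · exact hn'.2.1 (line_eq hP hxa hn.1 h2 hxn hn.2 hh ha2)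
      · exact hn'.2.2.1 (line_eq hP hxa hn.1 h3 hxn hn.2 hh ha3)
    have hxm : x ∉ m := fun hh => hn'.2.2.2 (line_eq hP hxa hn.1 hm hxn hn.2 hh ham)
    have hxAB : x ∈ A ∪ B := by
      by_contra hh
      have h2c : ((A ∪ B)ᶜ).card = 2 := by rw [Finset.card_compl, hP.card, cU]
      have heq : ({e, f} : Finset α) = (A ∪ B)ᶜ := Finset.eq_of_subset_of_card_le
        (by simp only [Finset.insert_subset_iff, Finset.singleton_subset_iff, Finset.mem_compl]
            exact ⟨he.1, hf.1⟩)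
        (by rw [h2c, Finset.card_pair hef])
      have hx' : x ∈ ({e, f} : Finset α) := heq ▸ Finset.mem_compl.2 hh
      simp only [Finset.mem_insert, Finset.mem_singleton] at hx'
      rcases hx' with rfl | rfl
      · exact hxm he.2
      · exact hxm hf.2
    have hxB := (Finset.mem_union.1 hxAB).resolve_left hxA
    simp only [hB, Finset.mem_union, Finset.mem_inter] at hxB ⊢
    tauto
  have h4' := Finset.card_le_card hsub
  rw [Finset.card_erase_of_mem hn.2, hP.steiner.1 _ hn.1] at h4'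
  have u1 := Finset.card_union_le ((n ∩ lbc) ∪ (n ∩ lbd)) (n ∩ lcd)
  have u2 := Finset.card_union_le (n ∩ lbc) (n ∩ lbd)
  have v1 := inter_card_le_one hP hn.1 h4 (fun e => n4a (e ▸ hn.2))
  have v2 := inter_card_le_one hP hn.1 h5 (fun e => n5a (e ▸ hn.2))
  have v3 := inter_card_le_one hP hn.1 h6 (fun e => n6a (e ▸ hn.2))
  omega

/-- each quadrangle lies in exactly one hyperoval -/
theorem quad_hyperoval (hP : IsPlane L) {S : Finset α} (hS : S.card = 4) (hI : Indep L S) :
    (S ∪ ext L S).card = 6 ∧ Indep L (S ∪ ext L S) ∧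
      ∀ H : Finset α, H.card = 6 → Indep L H → S ⊆ H → H = S ∪ ext L S := by
  obtain ⟨a, ha⟩ := Finset.card_pos.1 (by omega : 0 < S.card)
  have hU := (ext_quad_aux hP hS hI ha).1
  have hd : Disjoint S (ext L S) := Finset.disjoint_right.2 fun x hx => (mem_ext.1 hx).1
  have hc : (S ∪ ext L S).card = 6 := by rw [Finset.card_union_of_disjoint hd, hS, hU]
  refine ⟨hc, fun l hl => ?_, fun H hH hHI hsub => ?_⟩
  · rw [Finset.inter_union_distrib_left]
    refine (Finset.card_union_le _ _).trans ?_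
    rcases Finset.eq_empty_or_nonempty (l ∩ ext L S) with he | ⟨e, he⟩
    · rw [he, Finset.card_empty, add_zero]
      exact hI l hl
    · rw [Finset.mem_inter] at he
      have h2 := (mem_ext.1 he.2).2 l hl
      rw [Finset.inter_insert_of_mem he.1,
        Finset.card_insert_of_notMem (fun h => (mem_ext.1 he.2).1 (Finset.mem_inter.1 h).2)] at h2
      rcases Finset.eq_empty_or_nonempty (l ∩ S) with hs | ⟨s, hs⟩
      · rw [hs, Finset.card_empty, zero_add]
        exact (Finset.card_le_card Finset.inter_subset_right).trans (le_of_eq hU)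
      · rw [Finset.mem_inter] at hs
        have h1 := (ext_quad_aux hP hS hI hs.2).2 l hl hs.1
        rw [Finset.filter_mem_eq_inter, Finset.inter_comm] at h1
        omega
  · refine Finset.eq_of_subset_of_card_le (fun x hx => ?_) (le_of_eq (hc.trans hH.symm))
    by_cases hxS : x ∈ S
    · exact Finset.mem_union_left _ hxS
    · exact Finset.mem_union_right _ (mem_ext.2
        ⟨hxS, indep_of_subset hHI (Finset.insert_subset_iff.2 ⟨hx, hsub⟩)⟩)

/-- the independent `k`-sets -/
noncomputable def indepSets (L : Set (Finset α)) (k : ℕ) : Finset (Finset α) :=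
  (Set.toFinite {S | S.card = k ∧ Indep L S}).toFinset

theorem mem_indepSets {k : ℕ} {S : Finset α} : S ∈ indepSets L k ↔ S.card = k ∧ Indep L S := by
  simp [indepSets]

theorem indepSets_step (k n : ℕ) (h : ∀ T ∈ indepSets L k, (ext L T).card = n) :
    (indepSets L (k + 1)).card * (k + 1) = (indepSets L k).card * n := by
  classical
  refine (Finset.card_mul_eq_card_mul (fun (T S : Finset α) => T ⊆ S) ?_ ?_).symm
  · intro T hT
    rw [← h T hT]
    rw [mem_indepSets] at hT
    refine (Finset.card_bij (fun p _ => insert p T) ?_ ?_ ?_).symm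
    · intro p hp
      rw [mem_ext] at hp
      simp [Finset.mem_bipartiteAbove, mem_indepSets, Finset.card_insert_of_notMem hp.1, hT.1, hp.2]
    · intro p hp q hq hpq
      by_contra hne
      have : p ∈ insert q T := hpq ▸ Finset.mem_insert_self p T
      rw [Finset.mem_insert] at this
      exact (mem_ext.1 hp).1 (this.resolve_left hne)
    · intro S hS
      simp only [Finset.mem_bipartiteAbove, mem_indepSets] at hS
      obtain ⟨⟨hS1, hS2⟩, hTS⟩ := hS
      obtain ⟨p, hp⟩ := Finset.card_eq_one.1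
        (show (S \ T).card = 1 by rw [Finset.card_sdiff_of_subset hTS]; omega)
      have hpm : p ∈ S \ T := hp.symm ▸ Finset.mem_singleton_self p
      rw [Finset.mem_sdiff] at hpm
      have hins : insert p T = S := by
        rw [Finset.insert_eq, ← hp, Finset.sdiff_union_of_subset hTS]
      exact ⟨p, mem_ext.2 ⟨hpm.2, hins.symm ▸ hS2⟩, hins⟩
  · intro S hS
    rw [mem_indepSets] at hS
    have : Finset.bipartiteBelow (fun (T S : Finset α) => T ⊆ S) (indepSets L k) S = S.powersetCard k := by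
      ext T
      simp only [Finset.mem_bipartiteBelow, mem_indepSets, Finset.mem_powersetCard]
      exact ⟨fun h => ⟨h.2, h.1.1⟩, fun h => ⟨⟨h.2, indep_of_subset hS.2 h.1⟩, h.1⟩⟩
    rw [this, Finset.card_powersetCard, hS.1, Nat.choose_succ_self_right]

theorem card_indep_four (hP : IsPlane L) : (indepSets L 4).card = 2520 := by
  classical
  have h2 : indepSets L 2 = (Finset.univ : Finset α).powersetCard 2 := by
    ext S
    simp only [mem_indepSets, Finset.mem_powersetCard]
    exact ⟨fun h => ⟨Finset.subset_univ _, h.1⟩,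
      fun h => ⟨h.2, fun l _ => (Finset.card_le_card Finset.inter_subset_right).trans (le_of_eq h.2)⟩⟩
  have c2 : (indepSets L 2).card = 210 := by
    rw [h2, Finset.card_powersetCard, Finset.card_univ, hP.card]; rfl
  have s2 := indepSets_step (L := L) 2 16 fun T hT => by
    obtain ⟨a, b, hab, rfl⟩ := Finset.card_eq_two.1 (mem_indepSets.1 hT).1
    exact card_ext_pair hP hab
  have s3 := indepSets_step (L := L) 3 9 fun T hT =>
    card_ext_triangle hP (mem_indepSets.1 hT).1 (mem_indepSets.1 hT).2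
  simp only [Nat.reduceAdd] at s2 s3
  omega

theorem card_indep_six (hP : IsPlane L) : (indepSets L 6).card = 168 := by
  classical
  have h : (indepSets L 6).card * 15 = (indepSets L 4).card * 1 := by
    refine (Finset.card_mul_eq_card_mul (fun (T S : Finset α) => T ⊆ S) ?_ ?_).symm
    · intro T hT
      rw [mem_indepSets] at hT
      obtain ⟨h1, h2, h3⟩ := quad_hyperoval hP hT.1 hT.2
      rw [Finset.card_eq_one]
      refine ⟨T ∪ ext L T, Finset.ext fun S => ?_⟩
      simp only [Finset.mem_bipartiteAbove, mem_indepSets, Finset.mem_singleton]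
      refine ⟨fun h => h3 S h.1.1 h.1.2 h.2, fun h => ?_⟩
      subst h
      exact ⟨⟨h1, h2⟩, Finset.subset_union_left⟩
    · intro S hS
      rw [mem_indepSets] at hS
      have : Finset.bipartiteBelow (fun (T S : Finset α) => T ⊆ S) (indepSets L 4) S = S.powersetCard 4 := by
        ext T
        simp only [Finset.mem_bipartiteBelow, mem_indepSets, Finset.mem_powersetCard]
        exact ⟨fun h => ⟨h.2, h.1.1⟩, fun h => ⟨⟨h.2, indep_of_subset hS.2 h.1⟩, h.1⟩⟩
      rw [this, Finset.card_powersetCard, hS.1]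
      rfl
  have := card_indep_four hP
  omega

theorem exists_hyperoval (hP : IsPlane L) : ∃ H : Finset α, H.card = 6 ∧ Indep L H := by
  have := card_indep_six hP
  obtain ⟨H, hH⟩ := Finset.card_pos.1 (by omega : 0 < (indepSets L 6).card)
  exact ⟨H, mem_indepSets.1 hH⟩

/-! ### coordinates -/

/-- an enumeration of a hyperoval -/
structure Frame (L : Set (Finset α)) (h : Fin 6 → α) : Prop where
  inj : Function.Injective h
  oval : ∀ l ∈ L, ∀ i j k : Fin 6, i ≠ j → i ≠ k → j ≠ k → h i ∈ l → h j ∈ l → h k ∉ l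

theorem frame_of_equiv {H : Finset α} (hI : Indep L H) (s : Fin 6 ≃ ↥H) :
    Frame L (fun i => (s i : α)) :=
  ⟨Subtype.val_injective.comp s.injective, fun _ hl i j k hij hik hjk =>
    indep_not_mem hI (s i).2 (s j).2 (s k).2
      (fun e => hij (s.injective (Subtype.ext e))) (fun e => hik (s.injective (Subtype.ext e)))
      (fun e => hjk (s.injective (Subtype.ext e))) hl⟩

variable {h : Fin 6 → α}

theorem line_through_oval (hP : IsPlane L) (hF : Frame L h) {l : Finset α} (hl : l ∈ L) {i : Fin 6}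
    (hi : h i ∈ l) : ∃ j, j ≠ i ∧ h j ∈ l := by
  classical
  have he : ∀ j, j ≠ i → ∃ n, n ∈ L ∧ h i ∈ n ∧ h j ∈ n := fun j hj =>
    line_exists hP (fun e => hj (hF.inj e).symm)
  choose! f hf using he
  have hinj : Set.InjOn f ((Finset.univ.erase i : Finset (Fin 6)) : Set (Fin 6)) := by
    intro j hj k hk hjk
    simp only [Finset.coe_erase, Finset.coe_univ, Set.mem_diff, Set.mem_univ, Set.mem_singleton_iff,
      true_and] at hj hk
    by_contra hne
    exact hF.oval (f j) (hf j hj).1 i j k (Ne.symm hj) (Ne.symm hk) hne (hf j hj).2.1 (hf j hj).2.2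
      (hjk ▸ (hf k hk).2.2)
  have hsub : (Finset.univ.erase i).image f ⊆ pencil L (h i) := by
    intro n hn
    obtain ⟨j, hj, rfl⟩ := Finset.mem_image.1 hn
    exact mem_pencil.2 ⟨(hf j (Finset.mem_erase.1 hj).1).1, (hf j (Finset.mem_erase.1 hj).1).2.1⟩
  have heq := Finset.eq_of_subset_of_card_le hsub (by
    rw [card_pencil hP, Finset.card_image_of_injOn hinj, Finset.card_erase_of_mem (Finset.mem_univ i),
      Finset.card_univ, Fintype.card_fin])
  obtain ⟨j, hj, hjl⟩ := Finset.mem_image.1 (heq.symm ▸ mem_pencil.2 ⟨hl, hi⟩ :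
    l ∈ (Finset.univ.erase i).image f)
  exact ⟨j, (Finset.mem_erase.1 hj).1, hjl ▸ (hf j (Finset.mem_erase.1 hj).1).2.2⟩

theorem exists_syntheme (hP : IsPlane L) (hF : Frame L h) {p : α} (hp : ∀ i, h i ≠ p) :
    ∃ k : Fin 15, ∀ i : Fin 6, ∃ l ∈ L, h i ∈ l ∧ h (PlaneFourModel.syn k i) ∈ l ∧ p ∈ l := by
  have hm : ∀ i, ∃ j, j ≠ i ∧ ∃ l ∈ L, h i ∈ l ∧ h j ∈ l ∧ p ∈ l := by
    intro i
    obtain ⟨l, hl, hil, hpl⟩ := line_exists hP (hp i)
    obtain ⟨j, hji, hjl⟩ := line_through_oval hP hF hl hil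
    exact ⟨j, hji, l, hl, hil, hjl, hpl⟩
  choose m hm1 l hl hil hml hpl using hm
  have h2 : ∀ i, m (m i) = i := by
    intro i
    by_contra hne
    have e : l (m i) = l i := line_eq hP (hp (m i)) (hl _) (hl i) (hil _) (hpl _) (hml i) (hpl i)
    exact hF.oval (l i) (hl i) i (m i) (m (m i)) (Ne.symm (hm1 i)) (Ne.symm hne)
      (Ne.symm (hm1 (m i))) (hil i) (hml i) (e ▸ hml (m i))
  obtain ⟨k, hk⟩ := PlaneFourModel.exists_syn m hm1 h2
  exact ⟨k, fun i => ⟨l i, hl i, hil i, hk ▸ hml i, hpl i⟩⟩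

theorem syn_ne (k : Fin 15) (i : Fin 6) : PlaneFourModel.syn k i ≠ i := by
  revert k i; decide +kernel

theorem coordinates (hP : IsPlane L) (hF : Frame L h) :
    ∃ e : α ≃ Fin 21, (fun b : Finset α => b.image e) '' L = PlaneFourModel.lines ∧
      ∀ i, e (h i) = PlaneFourModel.ovalPt i := by
  classical
  open PlaneFourModel in
  have hs : ∀ p, (∀ i, h i ≠ p) →
      ∃ k : Fin 15, ∀ i : Fin 6, ∃ l ∈ L, h i ∈ l ∧ h (syn k i) ∈ l ∧ p ∈ l :=
    fun p hp => exists_syntheme hP hF hp
  choose φ hφ using hs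
  let f : α → Fin 21 := fun x =>
    if hx : ∃ i, h i = x then PlaneFourModel.ovalPt hx.choose
    else PlaneFourModel.synPt (φ x (fun i e => hx ⟨i, e⟩))
  have f1 : ∀ i, f (h i) = PlaneFourModel.ovalPt i := by
    intro i
    have hx : ∃ j, h j = h i := ⟨i, rfl⟩
    simp only [f, dif_pos hx]
    rw [hF.inj hx.choose_spec]
  have f2 : ∀ x (hx : ∀ i, h i ≠ x), f x = PlaneFourModel.synPt (φ x hx) := by
    intro x hx
    have hx' : ¬ ∃ i, h i = x := fun ⟨i, e⟩ => hx i e
    simp only [f, dif_neg hx']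
  have key : ∀ (p : α) (hp : ∀ i, h i ≠ p) (l : Finset α), l ∈ L → p ∈ l → ∀ i, h i ∈ l →
      h (PlaneFourModel.syn (φ p hp) i) ∈ l := by
    intro p hp l hl hpl i hil
    obtain ⟨m, hm, him, hsm, hpm⟩ := hφ p hp i
    rwa [line_eq hP (hp i) hl hm hil hpl him hpm]
  have key2 : ∀ (p : α) (hp : ∀ i, h i ≠ p) (q : α) (hq : ∀ i, h i ≠ q) (l : Finset α),
      l ∈ L → p ∈ l → q ∈ l → p ≠ q → (∀ i, h i ∉ l) →
      ∀ i, PlaneFourModel.syn (φ p hp) i ≠ PlaneFourModel.syn (φ q hq) i := by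
    intro p hp q hq l hl hpl hql hpq hl0 i e
    obtain ⟨m, hm, him, hsm, hpm⟩ := hφ p hp i
    obtain ⟨n, hn, hin, hsn, hqn⟩ := hφ q hq i
    have hmn : m = n := line_eq hP (fun e' => syn_ne _ i (hF.inj e').symm) hm hn him hsm hin (e ▸ hsn)
    exact hl0 i (line_eq hP hpq hl hm hpl hql hpm (hmn ▸ hqn) ▸ him)
  have finj : Function.Injective f := by
    intro x y hxy
    by_cases hx : ∃ i, h i = x <;> by_cases hy : ∃ i, h i = y
    · obtain ⟨i, rfl⟩ := hx
      obtain ⟨j, rfl⟩ := hy
      rw [f1, f1, PlaneFourModel.ovalPt, PlaneFourModel.ovalPt, Fin.mk.injEq] at hxy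
      rw [Fin.ext hxy]
    · obtain ⟨i, rfl⟩ := hx
      rw [f1, f2 y (fun i e => hy ⟨i, e⟩), PlaneFourModel.ovalPt, PlaneFourModel.synPt, Fin.mk.injEq] at hxy
      omega
    · obtain ⟨i, rfl⟩ := hy
      rw [f1, f2 x (fun i e => hx ⟨i, e⟩), PlaneFourModel.ovalPt, PlaneFourModel.synPt, Fin.mk.injEq] at hxy
      omega
    · have hx' : ∀ i, h i ≠ x := fun i e => hx ⟨i, e⟩
      have hy' : ∀ i, h i ≠ y := fun i e => hy ⟨i, e⟩
      rw [f2 x hx', f2 y hy', PlaneFourModel.synPt, PlaneFourModel.synPt, Fin.mk.injEq] at hxy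
      have e : φ x hx' = φ y hy' := Fin.ext (by omega)
      by_contra hne
      obtain ⟨m, hm, him, hsm, hxm⟩ := hφ x hx' 0
      have hym : y ∈ m := by
        obtain ⟨n, hn, hin, hsn, hyn⟩ := hφ y hy' 0
        rw [← e] at hsn
        rwa [line_eq hP (fun e' => syn_ne _ 0 (hF.inj e').symm) hm hn him hsm hin hsn]
      obtain ⟨i, hi0, hi1⟩ : ∃ i : Fin 6, i ≠ 0 ∧ i ≠ PlaneFourModel.syn (φ x hx') 0 := by
        generalize PlaneFourModel.syn (φ x hx') 0 = a
        revert a; decide +kernel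
      obtain ⟨m', hm', him', hsm', hxm'⟩ := hφ x hx' i
      have hym' : y ∈ m' := by
        obtain ⟨n, hn, hin, hsn, hyn⟩ := hφ y hy' i
        rw [← e] at hsn
        rwa [line_eq hP (fun e' => syn_ne _ i (hF.inj e').symm) hm' hn him' hsm' hin hsn]
      have heq := line_eq hP hne hm hm' hxm hym hxm' hym'
      exact hF.oval m hm 0 (PlaneFourModel.syn (φ x hx') 0) i (syn_ne _ 0).symm hi0.symm hi1.symm
        him hsm (heq ▸ him')
  have fbij : Function.Bijective f :=
    (Fintype.bijective_iff_injective_and_card f).2 ⟨finj, by rw [hP.card, Fintype.card_fin]⟩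
  have himg : ∀ l ∈ L, l.image f ∈ PlaneFourModel.lines := by
    intro l hl
    have hcard : (l.image f).card = 5 := by rw [Finset.card_image_of_injective _ finj, hP.steiner.1 l hl]
    suffices hh : ∃ n, ∀ x ∈ l, PlaneFourModel.onLine n (f x) = true by
      obtain ⟨n, hn⟩ := hh
      refine ⟨n, (Finset.eq_of_subset_of_card_le (fun y hy => ?_)
        (by rw [PlaneFourModel.card_line, hcard])).symm⟩
      obtain ⟨x, hx, rfl⟩ := Finset.mem_image.1 hy
      simp [PlaneFourModel.line, hn x hx]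
    by_cases hsec : ∃ i, h i ∈ l
    · obtain ⟨i, hi⟩ := hsec
      obtain ⟨j, hji, hj⟩ := line_through_oval hP hF hl hi
      obtain ⟨n, hn1, hn2, hn3⟩ := PlaneFourModel.secant i j hji.symm
      refine ⟨n, fun x hx => ?_⟩
      by_cases hxo : ∃ k, h k = x
      · obtain ⟨k, rfl⟩ := hxo
        rw [f1]
        by_cases hki : k = i
        · rwa [hki]
        by_cases hkj : k = j
        · rwa [hkj]
        exact absurd hx (hF.oval l hl i j k hji.symm (Ne.symm hki) (Ne.symm hkj) hi hj)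
      · have hx' : ∀ k, h k ≠ x := fun k e => hxo ⟨k, e⟩
        rw [f2 x hx']
        apply hn3
        have hs := key x hx' l hl hx i hi
        by_contra hne
        exact hF.oval l hl i j _ hji.symm (syn_ne _ i).symm (Ne.symm hne) hi hj hs
    · simp only [not_exists] at hsec
      have hout : ∀ x ∈ l, ∀ i, h i ≠ x := fun x hx i e => hsec i (e ▸ hx)
      set K : Finset (Fin 15) := l.attach.image (fun x => φ x.1 (hout x.1 x.2)) with hK
      have hKc : K.card = 5 := by
        rw [hK, Finset.card_image_of_injective, Finset.card_attach, hP.steiner.1 l hl]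
        intro x y hxy
        apply Subtype.ext
        apply finj
        rw [f2 _ (hout x.1 x.2), f2 _ (hout y.1 y.2)]
        exact congrArg PlaneFourModel.synPt hxy
      have hpair : ∀ a ∈ K, ∀ b ∈ K, a ≠ b → ∀ i, PlaneFourModel.syn a i ≠ PlaneFourModel.syn b i := by
        intro a ha b hb hab
        simp only [hK, Finset.mem_image, Finset.mem_attach, true_and, Subtype.exists] at ha hb
        obtain ⟨x, hx, rfl⟩ := ha
        obtain ⟨y, hy, rfl⟩ := hb
        exact key2 x _ y _ l hl hx hy (fun e => hab (by subst e; rfl)) hsec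
      set g := K.orderEmbOfFin hKc with hg
      have gm : ∀ i, g i ∈ K := fun i => Finset.orderEmbOfFin_mem K hKc i
      have gl : ∀ i j : Fin 5, i < j → g i < g j := fun i j hij => g.strictMono hij
      have gp : ∀ i j : Fin 5, i < j → ∀ t, PlaneFourModel.syn (g i) t ≠ PlaneFourModel.syn (g j) t :=
        fun i j hij => hpair _ (gm i) _ (gm j) (gl i j hij).ne
      obtain ⟨n, n0, n1, n2, n3, n4⟩ := PlaneFourModel.five_clique
        (g 0) (g 1) (gl 0 1 (by decide)) (gp 0 1 (by decide))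
        (g 2) (gl 1 2 (by decide)) (gp 0 2 (by decide)) (gp 1 2 (by decide))
        (g 3) (gl 2 3 (by decide)) (gp 0 3 (by decide)) (gp 1 3 (by decide)) (gp 2 3 (by decide))
        (g 4) (gl 3 4 (by decide)) (gp 0 4 (by decide)) (gp 1 4 (by decide)) (gp 2 4 (by decide))
          (gp 3 4 (by decide))
      refine ⟨n, fun x hx => ?_⟩
      rw [f2 x (hout x hx)]
      have hmem : φ x (hout x hx) ∈ Set.range g := by
        rw [hg, Finset.range_orderEmbOfFin]
        exact Finset.mem_image.2 ⟨⟨x, hx⟩, Finset.mem_attach _ _, rfl⟩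
      obtain ⟨t, ht⟩ := hmem
      rw [← ht]
      fin_cases t <;> assumption
  refine ⟨Equiv.ofBijective f fbij, ?_, f1⟩
  ext m
  constructor
  · rintro ⟨l, hl, rfl⟩
    exact himg l hl
  · rintro ⟨n, rfl⟩
    obtain ⟨x, hx, y, hy, hxy⟩ := Finset.one_lt_card.1
      (by rw [PlaneFourModel.card_line n]; norm_num : 1 < (PlaneFourModel.line n).card)
    obtain ⟨u, rfl⟩ := fbij.2 x
    obtain ⟨v, rfl⟩ := fbij.2 y
    obtain ⟨l, hl, hul, hvl⟩ := line_exists hP (fun e => hxy (congrArg f e) : u ≠ v)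
    refine ⟨l, hl, ?_⟩
    obtain ⟨n', hn'⟩ := himg l hl
    have heq : n' = n := by
      by_contra hne
      apply hxy
      have mem : ∀ (t : Fin 21) (z : Fin 21),
          z ∈ PlaneFourModel.line t → PlaneFourModel.onLine t z = true := fun t z hz => by
        simpa [PlaneFourModel.line] using hz
      exact PlaneFourModel.two_points n' n hne (f u)
        (mem _ _ (hn'.symm ▸ Finset.mem_image_of_mem f hul)) (mem _ _ hx) (f v)
        (mem _ _ (hn'.symm ▸ Finset.mem_image_of_mem f hvl)) (mem _ _ hy)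
    subst heq
    exact hn'.symm

theorem iso_of_frames {β : Type*} [Fintype β] [DecidableEq β] {L' : Set (Finset β)}
    (hP : IsPlane L) (hP' : IsPlane L') {h' : Fin 6 → β} (hF : Frame L h) (hF' : Frame L' h') :
    ∃ g : α ≃ β, (fun b : Finset α => b.image g) '' L = L' ∧ ∀ i, g (h i) = h' i := by
  obtain ⟨e, he, hei⟩ := coordinates hP hF
  obtain ⟨e', he', hei'⟩ := coordinates hP' hF'
  refine ⟨e.trans e'.symm, ?_, fun i => ?_⟩
  · have h1 : (fun b : Finset α => b.image (e.trans e'.symm)) =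
        (fun b : Finset (Fin 21) => b.image e'.symm) ∘ (fun b : Finset α => b.image e) := by
      funext b
      simp [Finset.image_image]
    rw [h1, Set.image_comp, he, ← he', ← Set.image_comp]
    have h2 : ((fun b : Finset (Fin 21) => b.image e'.symm) ∘ fun b : Finset β => b.image e') = id := by
      funext b
      simp [Finset.image_image]
    rw [h2, Set.image_id]
  · rw [Equiv.trans_apply, hei, ← hei', Equiv.symm_apply_apply]

theorem unique_up_to_iso {β : Type*} [Fintype β] [DecidableEq β] {L' : Set (Finset β)}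
    (hP : IsPlane L) (hP' : IsPlane L') : Cfsg.SetSystemIso L L' := by
  obtain ⟨H, hH, hI⟩ := exists_hyperoval hP
  obtain ⟨H', hH', hI'⟩ := exists_hyperoval hP'
  let s : Fin 6 ≃ ↥H := (Fintype.equivFinOfCardEq (by rw [Fintype.card_coe, hH])).symm
  let s' : Fin 6 ≃ ↥H' := (Fintype.equivFinOfCardEq (by rw [Fintype.card_coe, hH'])).symm
  obtain ⟨g, hg, -⟩ := iso_of_frames hP hP' (frame_of_equiv hI s) (frame_of_equiv hI' s')
  exact ⟨g, hg⟩

theorem collineation_unique (hP : IsPlane L) (hF : Frame L h) (g : Equiv.Perm α)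
    (hg : g ∈ Cfsg.setSystemAut L) (hfix : ∀ i, g (h i) = h i) : g = 1 := by
  have hline : ∀ l ∈ L, l.image g ∈ L := by
    intro l hl
    have h1 : g • l ∈ g • L := Set.smul_mem_smul_set hl
    rw [MulAction.mem_stabilizer_iff.1 hg] at h1
    rw [Finset.smul_finset_def] at h1
    exact h1
  refine Equiv.ext fun p => ?_
  by_contra hne
  have hne' : g p ≠ p := hne
  by_cases hp : ∃ i, h i = p
  · obtain ⟨i, rfl⟩ := hp
    exact hne' (hfix i)
  have hp' : ∀ i, h i ≠ p := fun i e => hp ⟨i, e⟩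
  obtain ⟨k, hk⟩ := exists_syntheme hP hF hp'
  have fixes : ∀ i, ∃ l ∈ L, h i ∈ l ∧ h (PlaneFourModel.syn k i) ∈ l ∧ p ∈ l ∧ g p ∈ l := by
    intro i
    obtain ⟨l, hl, hil, hsl, hpl⟩ := hk i
    refine ⟨l, hl, hil, hsl, hpl, ?_⟩
    have e : l.image g = l := line_eq hP (fun e => syn_ne k i (hF.inj e).symm) (hline l hl) hl
      (Finset.mem_image.2 ⟨_, hil, hfix i⟩) (Finset.mem_image.2 ⟨_, hsl, hfix _⟩) hil hsl
    rw [← e]
    exact Finset.mem_image_of_mem g hpl
  obtain ⟨i, hi0, hi1⟩ : ∃ i : Fin 6, i ≠ 0 ∧ i ≠ PlaneFourModel.syn k 0 := by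
    generalize PlaneFourModel.syn k 0 = a
    revert a; decide +kernel
  obtain ⟨l, hl, hil, hsl, hpl, hgl⟩ := fixes 0
  obtain ⟨m, hm, him, hsm, hpm, hgm⟩ := fixes i
  have := line_eq hP (Ne.symm hne') hl hm hpl hgl hpm hgm
  exact hF.oval l hl 0 (PlaneFourModel.syn k 0) i (syn_ne k 0).symm hi0.symm hi1.symm hil hsl
    (this ▸ him)

theorem collineation_extend (hP : IsPlane L) {H : Finset α} (hH : H.card = 6) (hI : Indep L H)
    (σ : Equiv.Perm ↥H) :
    ∃! g : Equiv.Perm α, g ∈ Cfsg.setSystemAut L ∧ ∀ p : ↥H, g p = σ p := by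
  let s : Fin 6 ≃ ↥H := (Fintype.equivFinOfCardEq (by rw [Fintype.card_coe, hH])).symm
  have hF := frame_of_equiv (L := L) hI s
  obtain ⟨g, hg, hgi⟩ := iso_of_frames hP hP hF (frame_of_equiv (L := L) hI (s.trans σ))
  have hgσ : ∀ p : ↥H, g p = σ p := by
    intro p
    obtain ⟨i, rfl⟩ := s.surjective p
    exact hgi i
  refine ⟨g, ⟨?_, hgσ⟩, fun g' hg' => ?_⟩
  · rw [MulAction.mem_stabilizer_iff]
    refine Eq.trans ?_ hg
    rw [← Set.image_smul]
    refine Set.image_congr fun b _ => ?_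
    rw [Finset.smul_finset_def]
    rfl
  · have hmem : g ∈ Cfsg.setSystemAut L := by
      rw [MulAction.mem_stabilizer_iff]
      refine Eq.trans ?_ hg
      rw [← Set.image_smul]
      refine Set.image_congr fun b _ => ?_
      rw [Finset.smul_finset_def]
      rfl
    have := collineation_unique hP hF (g⁻¹ * g') (Subgroup.mul_mem _ (Subgroup.inv_mem _ hmem) hg'.1)
      (fun i => by
        rw [Equiv.Perm.mul_apply, hg'.2, ← hgσ]
        simp)
    exact (inv_mul_eq_one.1 this).symm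

end CfsgLib.Combin.PlaneFour
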