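import Mathlib
import Cfsg.Prelude.Def_Sporadic_a
import Cfsg.Agent.Lib.Combin.SteinerCount

/-!
Abstract extended binary Golay codes: self-dual codes of length 24 with minimum weight at least 8.
-/

set_option autoImplicit false

namespace CfsgLib.Combin.AbstractGolay

variable {α : Type*} [Fintype α] [DecidableEq α]

/-- a self-dual binary code of length 24 with minimum weight at least 8 -/
structure IsGolay (C : Submodule (ZMod 2) (α → ZMod 2)) : Prop where
  len : Fintype.card α = 24
  dim : Module.finrank (ZMod 2) C = 12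
  orth : ∀ v ∈ C, ∀ w ∈ C, ∑ i, v i * w i = 0
  min : ∀ w ∈ C, w ≠ 0 → 8 ≤ hammingNorm w

/-- an element of `ZMod 2` that is not zero is one -/
theorem zmod_two_eq_one {a : ZMod 2} (h : a ≠ 0) : a = 1 := by revert h; revert a; decide

omit [DecidableEq α] in
theorem support₂_injective : Function.Injective (Cfsg.support₂ : (α → ZMod 2) → Finset α) := by
  intro u v h
  funext i
  have hi := Finset.ext_iff.1 h i
  simp only [Cfsg.support₂, Finset.mem_filter, Finset.mem_univ, true_and] at hi
  revert hi; generalize u i = a; generalize v i = b; revert a b; decide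

omit [DecidableEq α] in
theorem card_support₂ (u : α → ZMod 2) : (Cfsg.support₂ u).card = hammingNorm u := rfl

theorem card_weight_eq (j : ℕ) :
    (Finset.univ.filter (fun u : α → ZMod 2 => hammingNorm u = j)).card =
      (Fintype.card α).choose j := by
  rw [← Finset.card_univ, ← Finset.card_powersetCard]
  refine Finset.card_bij (fun u _ => Cfsg.support₂ u) ?_ ?_ ?_
  · intro u hu
    rw [Finset.mem_filter] at hu
    exact Finset.mem_powersetCard.2 ⟨Finset.subset_univ _, hu.2⟩
  · intro u _ v _ h
    exact support₂_injective h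
  · intro b hb
    rw [Finset.mem_powersetCard] at hb
    have h : Cfsg.support₂ (fun i => if i ∈ b then (1 : ZMod 2) else 0) = b := by
      ext i; simp [Cfsg.support₂]
    refine ⟨_, Finset.mem_filter.2 ⟨Finset.mem_univ _, ?_⟩, h⟩
    rw [← card_support₂, h, hb.2]

omit [DecidableEq α] in
theorem hammingNorm_natCast (w : α → ZMod 2) : (hammingNorm w : ZMod 2) = ∑ i, w i := by
  rw [hammingNorm, Finset.card_filter, Nat.cast_sum]
  refine Finset.sum_congr rfl fun i _ => ?_
  by_cases h : w i = 0
  · simp [h]
  · simp [zmod_two_eq_one h]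

/-- the number of code words of weight `j` -/
noncomputable def weightCount (C : Submodule (ZMod 2) (α → ZMod 2)) (j : ℕ) : ℕ :=
  (Set.toFinite {w : α → ZMod 2 | w ∈ C ∧ hammingNorm w = j}).toFinset.card

variable {C : Submodule (ZMod 2) (α → ZMod 2)}

theorem dualAnnihilator_finrank (hC : IsGolay C) :
    Module.finrank (ZMod 2) C.dualAnnihilator = 12 := by
  have h := Subspace.finrank_add_finrank_dualAnnihilator_eq C
  rw [hC.dim, Module.finrank_fintype_fun_eq_card, hC.len] at h
  omega

/-- self-duality -/
theorem mem_of_orth (hC : IsGolay C) (v : α → ZMod 2) (hv : ∀ w ∈ C, ∑ i, v i * w i = 0) :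
    v ∈ C := by
  set e := dotProductEquiv (ZMod 2) α with he
  have h1 : C.map e.toLinearMap ≤ C.dualAnnihilator := by
    rintro _ ⟨x, hx, rfl⟩
    rw [Submodule.mem_dualAnnihilator]
    intro w hw
    exact hC.orth x hx w hw
  have h2 : C.map e.toLinearMap = C.dualAnnihilator := by
    refine Submodule.eq_of_le_of_finrank_eq h1 ?_
    rw [dualAnnihilator_finrank hC, LinearEquiv.finrank_map_eq, hC.dim]
  have h3 : e v ∈ C.map e.toLinearMap := by
    rw [h2, Submodule.mem_dualAnnihilator]
    exact hv
  obtain ⟨x, hx, hxe⟩ := h3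
  rwa [← e.injective hxe]

theorem one_mem (hC : IsGolay C) : (1 : α → ZMod 2) ∈ C := by
  refine mem_of_orth hC 1 fun w hw => ?_
  have h := hC.orth w hw w hw
  have : ∀ a : ZMod 2, a * a = a := by decide
  simpa [this] using h

theorem even_weight (hC : IsGolay C) (w : α → ZMod 2) (hw : w ∈ C) : hammingNorm w % 2 = 0 := by
  have h : ∑ i, (1 : α → ZMod 2) i * w i = 0 := hC.orth _ (one_mem hC) _ hw
  have h2 : (hammingNorm w : ZMod 2) = 0 := by rw [hammingNorm_natCast]; simpa using h
  exact Nat.mod_eq_zero_of_dvd ((ZMod.natCast_eq_zero_iff _ 2).1 h2)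

theorem hammingNorm_one_sub (hC : IsGolay C) (w : α → ZMod 2) :
    hammingNorm (1 - w) + hammingNorm w = 24 := by
  rw [← hC.len, ← Finset.card_univ]
  conv_rhs => rw [← Finset.card_filter_add_card_filter_not (fun i => (1 - w) i ≠ 0)]
  congr 1
  unfold hammingNorm
  congr 1
  ext i
  simp only [Pi.sub_apply, Pi.one_apply, Finset.mem_filter, Finset.mem_univ, true_and, not_not]
  have key : ∀ a : ZMod 2, a ≠ 0 ↔ (1 : ZMod 2) - a = 0 := by decide
  exact key (w i)

/-- the restriction of the code to at most seven coordinates is onto -/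
theorem restrict_surjective (hC : IsGolay C) (S : Finset α) (hS : S.card ≤ 7) :
    Function.Surjective ((LinearMap.funLeft (ZMod 2) (ZMod 2) (fun i : S => (i : α))).comp C.subtype) := by
  set π := LinearMap.funLeft (ZMod 2) (ZMod 2) (fun i : S => (i : α)) with hπ
  rw [← LinearMap.range_eq_top]
  by_contra hne
  obtain ⟨f, hf0, hf⟩ := Submodule.exists_dual_map_eq_bot_of_lt_top
    (lt_top_iff_ne_top.2 hne) inferInstance
  set e := dotProductEquiv (ZMod 2) α with he
  set u := e.symm (f.comp π) with hu
  have hdot : ∀ w, ∑ i, u i * w i = f (π w) := fun w => by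
    have : e u w = f (π w) := by rw [hu, LinearEquiv.apply_symm_apply]; rfl
    exact this
  have hu_out : ∀ i, i ∉ S → u i = 0 := by
    intro i hi
    have h := hdot (Pi.single i 1)
    have hz : π (Pi.single i 1) = 0 := by
      funext j
      rw [hπ, LinearMap.funLeft_apply, Pi.single_eq_of_ne (by rintro rfl; exact hi j.2), Pi.zero_apply]
    rw [hz, map_zero] at h
    simpa [Pi.single_apply] using h
  have huC : u ∈ C := by
    refine mem_of_orth hC u fun w hw => ?_
    rw [hdot]
    have : f (π w) ∈ Submodule.map f (LinearMap.range (π.comp C.subtype)) :=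
      Submodule.mem_map_of_mem ⟨⟨w, hw⟩, rfl⟩
    rw [hf, Submodule.mem_bot] at this
    exact this
  have hu0 : u = 0 := by
    by_contra h
    have h8 := hC.min u huC h
    have hle : hammingNorm u ≤ S.card := by
      refine Finset.card_le_card fun i hi => ?_
      rw [Finset.mem_filter] at hi
      by_contra hiS
      exact hi.2 (hu_out i hiS)
    omega
  apply hf0
  refine LinearMap.ext fun y => ?_
  obtain ⟨w, rfl⟩ : ∃ w, π w = y :=
    LinearMap.funLeft_surjective_of_injective (ZMod 2) (ZMod 2) _ Subtype.val_injective y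
  rw [← hdot, hu0]
  simp

/-- every pattern on at most seven coordinates occurs equally often -/
theorem card_words_containing (hC : IsGolay C) (S : Finset α) (hS : S.card ≤ 7) :
    (Set.toFinite {w : α → ZMod 2 | w ∈ C ∧ ∀ i ∈ S, w i = 1}).toFinset.card * 2 ^ S.card = 4096 := by
  classical
  set p := (LinearMap.funLeft (ZMod 2) (ZMod 2) (fun i : S => (i : α))).comp C.subtype with hp
  have hsurj := restrict_surjective hC S hS
  have hcard : Fintype.card C = 4096 := by
    rw [Module.card_eq_pow_finrank (K := ZMod 2), hC.dim, ZMod.card]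
    norm_num
  have h1 := Finset.card_eq_sum_card_fiberwise (f := fun w : C => p w)
    (s := Finset.univ) (t := Finset.univ) (fun w _ => Finset.mem_univ _)
  have h2 : ∀ y : S → ZMod 2, (Finset.univ.filter (fun w : C => p w = y)).card =
      (Finset.univ.filter (fun w : C => p w = 1)).card :=
    fun y => AddMonoidHom.card_fiber_eq_of_mem_range p.toAddMonoidHom
      (hsurj y) (hsurj 1)
  rw [Finset.sum_congr rfl (fun y _ => h2 y), Finset.sum_const, smul_eq_mul, Finset.card_univ,
    Finset.card_univ, hcard, Fintype.card_fun, ZMod.card, Fintype.card_coe] at h1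
  rw [h1, mul_comm]
  congr 1
  symm
  refine Finset.card_bij (fun w _ => (w : α → ZMod 2)) ?_ ?_ ?_
  · intro w hw
    simp only [Finset.mem_filter, Finset.mem_univ, true_and] at hw
    simp only [Set.Finite.mem_toFinset, Set.mem_setOf_eq]
    exact ⟨w.2, fun i hi => congrFun hw ⟨i, hi⟩⟩
  · intro a _ b _ h
    exact Subtype.ext h
  · intro w hw
    simp only [Set.Finite.mem_toFinset, Set.mem_setOf_eq] at hw
    refine ⟨⟨w, hw.1⟩, ?_, rfl⟩
    simp only [Finset.mem_filter, Finset.mem_univ, true_and]
    funext i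
    exact hw.2 i i.2

theorem moment (hC : IsGolay C) (k : ℕ) (hk : k ≤ 7) :
    (∑ j ∈ Finset.range 25, weightCount C j * j.choose k) * 2 ^ k = Nat.choose 24 k * 4096 := by
  classical
  set W : Finset (α → ZMod 2) := Finset.univ.filter (· ∈ C) with hW
  have h1 : ∑ j ∈ Finset.range 25, weightCount C j * j.choose k =
      ∑ w ∈ W, (hammingNorm w).choose k := by
    rw [← Finset.sum_fiberwise_of_maps_to (s := W) (t := Finset.range 25) (g := hammingNorm)]
    · refine Finset.sum_congr rfl fun j _ => ?_
      rw [Finset.sum_congr rfl (g := fun _ => j.choose k) (fun w hw => by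
        rw [(Finset.mem_filter.1 hw).2]), Finset.sum_const, smul_eq_mul]
      refine congrArg (· * _) ?_
      unfold weightCount
      refine congrArg Finset.card (Finset.ext fun w => ?_)
      simp [hW]
    · intro w _
      rw [Finset.mem_range]
      have := hammingNorm_one_sub hC w
      omega
  have h2 : ∀ w : α → ZMod 2, (hammingNorm w).choose k =
      ∑ S ∈ (Finset.univ : Finset α).powersetCard k, if (∀ i ∈ S, w i = 1) then 1 else 0 := by
    intro w
    rw [← card_support₂, ← Finset.card_powersetCard, ← Finset.card_filter]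
    refine congrArg Finset.card (Finset.ext fun S => ?_)
    simp only [Finset.mem_powersetCard, Finset.mem_filter, Finset.subset_iff, Cfsg.support₂,
      Finset.mem_univ, true_and, implies_true]
    constructor
    · rintro ⟨h, hc⟩
      exact ⟨hc, fun i hi => zmod_two_eq_one (h hi)⟩
    · rintro ⟨hc, h⟩
      exact ⟨fun i hi => by rw [h i hi]; exact one_ne_zero, hc⟩
  rw [h1, Finset.sum_congr rfl (fun w _ => h2 w), Finset.sum_comm, Finset.sum_mul]
  rw [Finset.sum_congr rfl (g := fun _ => 4096) ?_, Finset.sum_const, smul_eq_mul,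
    Finset.card_powersetCard, Finset.card_univ, hC.len]
  intro S hS
  rw [Finset.mem_powersetCard] at hS
  rw [← Finset.card_filter]
  have := card_words_containing hC S (by omega)
  rw [hS.2] at this
  rw [← this]
  refine congrArg (· * _) (congrArg Finset.card (Finset.ext fun w => ?_))
  simp [hW]

theorem weightCount_eq_zero_iff {j : ℕ} :
    weightCount C j = 0 ↔ ∀ w ∈ C, hammingNorm w ≠ j := by
  simp [weightCount, Finset.card_eq_zero, Finset.ext_iff]

theorem weightCount_zero : weightCount C 0 = 1 := by
  unfold weightCount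
  rw [Finset.card_eq_one]
  refine ⟨0, ?_⟩
  ext w
  simp only [Set.Finite.mem_toFinset, Set.mem_setOf_eq, hammingNorm_eq_zero, Finset.mem_singleton]
  exact ⟨fun h => h.2, fun h => ⟨h ▸ C.zero_mem, h⟩⟩

theorem weightCount_top (hC : IsGolay C) : weightCount C 24 = 1 := by
  unfold weightCount
  rw [Finset.card_eq_one]
  refine ⟨1, ?_⟩
  ext w
  simp only [Set.Finite.mem_toFinset, Set.mem_setOf_eq, Finset.mem_singleton]
  have h := hammingNorm_one_sub hC w
  constructor
  · rintro ⟨-, hw⟩
    have h0 : hammingNorm (1 - w) = 0 := by omega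
    rw [hammingNorm_eq_zero, sub_eq_zero] at h0
    exact h0.symm
  · rintro rfl
    simp only [sub_self, hammingNorm_zero, zero_add] at h
    exact ⟨one_mem hC, h⟩

theorem weightCount_excluded (hC : IsGolay C) {j : ℕ}
    (h : (0 < j ∧ j < 8) ∨ j % 2 = 1 ∨ (16 < j ∧ j < 24)) : weightCount C j = 0 := by
  rw [weightCount_eq_zero_iff]
  rintro w hw rfl
  have he := even_weight hC w hw
  rcases h with h | h | h
  · have hw0 : w ≠ 0 := by rintro rfl; simp at h
    have := hC.min w hw hw0
    omega
  · omega
  · have h1 := hammingNorm_one_sub hC w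
    have h2 : 1 - w ≠ 0 := by
      intro h0
      rw [h0, hammingNorm_zero] at h1
      omega
    have := hC.min _ (C.sub_mem (one_mem hC) hw) h2
    omega

/-- the weight distribution 1, 759, 2576, 759, 1 -/
theorem weight_distribution (hC : IsGolay C) :
    weightCount C 8 = 759 ∧ weightCount C 10 = 0 ∧ weightCount C 12 = 2576 ∧
      weightCount C 14 = 0 ∧ weightCount C 16 = 759 := by
  have m0 := moment hC 0 (by norm_num)
  have m1 := moment hC 1 (by norm_num)
  have m2 := moment hC 2 (by norm_num)
  have m3 := moment hC 3 (by norm_num)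
  have m4 := moment hC 4 (by norm_num)
  have z := fun j h => weightCount_excluded hC (j := j) h
  simp only [Finset.sum_range_succ, Finset.sum_range_zero, weightCount_zero, weightCount_top hC,
    z 1 (by norm_num), z 2 (by norm_num), z 3 (by norm_num), z 4 (by norm_num), z 5 (by norm_num),
    z 6 (by norm_num), z 7 (by norm_num), z 9 (by norm_num), z 11 (by norm_num), z 13 (by norm_num),
    z 15 (by norm_num), z 17 (by norm_num), z 18 (by norm_num), z 19 (by norm_num), z 20 (by norm_num),
    z 21 (by norm_num), z 22 (by norm_num), z 23 (by norm_num)] at m0 m1 m2 m3 m4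
  norm_num [Nat.choose] at m0 m1 m2 m3 m4
  omega

theorem weights (hC : IsGolay C) (w : α → ZMod 2) (hw : w ∈ C) :
    hammingNorm w = 0 ∨ hammingNorm w = 8 ∨ hammingNorm w = 12 ∨ hammingNorm w = 16 ∨
      hammingNorm w = 24 := by
  obtain ⟨-, h10, -, h14, -⟩ := weight_distribution hC
  have a10 := weightCount_eq_zero_iff.1 h10 w hw
  have a14 := weightCount_eq_zero_iff.1 h14 w hw
  have hle := hammingNorm_one_sub hC w
  have he := even_weight hC w hw
  have hex : ∀ j, hammingNorm w = j → ¬ ((0 < j ∧ j < 8) ∨ j % 2 = 1 ∨ (16 < j ∧ j < 24)) :=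
    fun j hj hh => weightCount_eq_zero_iff.1 (weightCount_excluded hC hh) w hw hj
  have := hex _ rfl
  omega

theorem four_dvd (hC : IsGolay C) (w : α → ZMod 2) (hw : w ∈ C) : 4 ∣ hammingNorm w := by
  rcases weights hC w hw with h | h | h | h | h <;> rw [h] <;> decide

theorem hammingNorm_sub_le (u v : α → ZMod 2) :
    hammingNorm (u - v) + 2 * (Cfsg.support₂ u ∩ Cfsg.support₂ v).card ≤
      hammingNorm u + hammingNorm v := by
  have h1 : Cfsg.support₂ (u - v) ⊆
      (Cfsg.support₂ u ∪ Cfsg.support₂ v) \ (Cfsg.support₂ u ∩ Cfsg.support₂ v) := by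
    intro i hi
    simp only [Cfsg.support₂, Pi.sub_apply, Finset.mem_filter, Finset.mem_univ, true_and,
      Finset.mem_union, Finset.mem_inter, Finset.mem_sdiff] at hi ⊢
    revert hi
    generalize u i = a; generalize v i = b; revert a b; decide
  have h2 := Finset.card_le_card h1
  have h3 : Cfsg.support₂ u ∩ Cfsg.support₂ v ⊆ Cfsg.support₂ u ∪ Cfsg.support₂ v :=
    fun i hi => Finset.mem_union_left _ (Finset.mem_inter.1 hi).1
  rw [Finset.card_sdiff_of_subset h3] at h2
  have h4 := Finset.card_union_add_card_inter (Cfsg.support₂ u) (Cfsg.support₂ v)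
  have h5 := Finset.card_le_card h3
  rw [← card_support₂, ← card_support₂ u, ← card_support₂ v]
  omega

theorem octads_steiner (hC : IsGolay C) :
    Cfsg.IsSteinerSystem 5 8 (Cfsg.wordsOfWeight (C : Set (α → ZMod 2)) 8) := by
  classical
  set B := Cfsg.wordsOfWeight (C : Set (α → ZMod 2)) 8 with hB
  have huniq : ∀ b ∈ B, ∀ b' ∈ B, ∀ s : Finset α, s.card = 5 → s ⊆ b → s ⊆ b' → b = b' := by
    rintro _ ⟨⟨u, hu, rfl⟩, hu8⟩ _ ⟨⟨v, hv, rfl⟩, hv8⟩ s hs hsu hsv
    congr 1
    by_contra hne
    have h1 := hC.min _ (C.sub_mem hu hv) (sub_ne_zero.2 hne)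
    have h2 := hammingNorm_sub_le u v
    have h3 := Finset.card_le_card (Finset.subset_inter hsu hsv)
    rw [card_support₂] at hu8 hv8
    omega
  set BF := (Set.toFinite B).toFinset with hBF
  have hBcard : BF.card = 759 := by
    rw [← (weight_distribution hC).1]
    unfold weightCount
    refine (Finset.card_bij (fun w _ => Cfsg.support₂ w) ?_ ?_ ?_).symm
    · intro w hw
      simp only [Set.Finite.mem_toFinset, Set.mem_setOf_eq] at hw
      simp only [hBF, Set.Finite.mem_toFinset]
      exact ⟨⟨w, hw.1, rfl⟩, hw.2⟩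
    · intro u _ v _ h
      exact support₂_injective h
    · intro b hb
      simp only [hBF, Set.Finite.mem_toFinset] at hb
      obtain ⟨⟨w, hw, rfl⟩, h8⟩ := hb
      exact ⟨w, by simpa using ⟨hw, h8⟩, rfl⟩
  refine ⟨fun b hb => hb.2, fun s hs => ?_⟩
  have hall : BF.biUnion (fun b => b.powersetCard 5) = (Finset.univ : Finset α).powersetCard 5 := by
    refine Finset.eq_of_subset_of_card_le ?_ ?_
    · intro x hx
      simp only [Finset.mem_biUnion, Finset.mem_powersetCard] at hx ⊢
      obtain ⟨b, -, -, hc⟩ := hx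
      exact ⟨Finset.subset_univ _, hc⟩
    · rw [Finset.card_biUnion, Finset.sum_congr rfl (g := fun _ => 56) (fun b hb => by
        simp only [hBF, Set.Finite.mem_toFinset] at hb
        rw [Finset.card_powersetCard, hb.2]
        rfl), Finset.sum_const, hBcard, Finset.card_powersetCard, Finset.card_univ, hC.len,
        show Nat.choose 24 5 = 42504 by rfl]
      · norm_num
      · intro b hb b' hb' hne
        rw [Function.onFun, Finset.disjoint_left]
        intro x hx hx'
        simp only [Finset.mem_powersetCard] at hx hx'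
        simp only [Finset.mem_coe, hBF, Set.Finite.mem_toFinset] at hb hb'
        exact hne (huniq b hb b' hb' x hx.2 hx.1 hx'.1)
  obtain ⟨b, hb, hsb⟩ := Finset.mem_biUnion.1
    (hall.symm ▸ Finset.mem_powersetCard.2 ⟨Finset.subset_univ s, hs⟩ :
      s ∈ BF.biUnion (fun b => b.powersetCard 5))
  simp only [hBF, Set.Finite.mem_toFinset] at hb
  rw [Finset.mem_powersetCard] at hsb
  exact ⟨b, ⟨hb, hsb.1⟩, fun b' hb' => huniq b' hb'.1 b hb s hs hb'.2 hsb.1⟩

theorem exists_octad (hC : IsGolay C) : ∃ w ∈ C, hammingNorm w = 8 := by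
  by_contra h
  have h0 := (weightCount_eq_zero_iff (C := C) (j := 8)).2 fun w hw hw8 => h ⟨w, hw, hw8⟩
  have := (weight_distribution hC).1
  omega

theorem eq_or_disjoint_of_same_coset (hC : IsGolay C) {u v : α → ZMod 2} (huv : u - v ∈ C)
    (hu : hammingNorm u ≤ 4) (hv : hammingNorm v ≤ 4) :
    u = v ∨ (hammingNorm u = 4 ∧ hammingNorm v = 4 ∧ Disjoint (Cfsg.support₂ u) (Cfsg.support₂ v)) := by
  refine or_iff_not_imp_left.2 fun hne => ?_
  have h1 := hC.min _ huv (sub_ne_zero.2 hne)
  have h2 := hammingNorm_sub_le u v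
  refine ⟨by omega, by omega, ?_⟩
  rw [Finset.disjoint_iff_inter_eq_empty, ← Finset.card_eq_zero]
  omega

/-- the coset leaders -/
theorem coset_leaders (hC : IsGolay C) (w : α → ZMod 2) :
    (∃ u : α → ZMod 2, {u : α → ZMod 2 | u - w ∈ C ∧ hammingNorm u ≤ 4} = {u} ∧ hammingNorm u ≤ 3) ∨
    ({u : α → ZMod 2 | u - w ∈ C ∧ hammingNorm u ≤ 4}.ncard = 6 ∧
      ∀ u ∈ {u : α → ZMod 2 | u - w ∈ C ∧ hammingNorm u ≤ 4}, hammingNorm u = 4 ∧
        ∀ u' ∈ {u : α → ZMod 2 | u - w ∈ C ∧ hammingNorm u ≤ 4}, u ≠ u' →
          Disjoint (Cfsg.support₂ u) (Cfsg.support₂ u')) := by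
  classical
  let cls : (α → ZMod 2) → (α → ZMod 2) ⧸ C := Submodule.Quotient.mk
  have hcls : ∀ u v, cls u = cls v ↔ u - v ∈ C := fun u v => Submodule.Quotient.eq C
  set L := Finset.univ.filter (fun u : α → ZMod 2 => hammingNorm u ≤ 3) with hL
  set M := Finset.univ.filter (fun u : α → ZMod 2 => hammingNorm u = 4) with hM
  have hLc : L.card = 2325 := by
    rw [Finset.card_eq_sum_card_fiberwise (f := hammingNorm) (t := Finset.range 4)
      (fun u hu => by simp [hL] at hu ⊢; omega)]
    have : ∀ j ∈ Finset.range 4, (L.filter (fun u => hammingNorm u = j)).card = Nat.choose 24 j := by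
      intro j hj
      rw [Finset.mem_range] at hj
      rw [← hC.len, ← card_weight_eq]
      congr 1
      ext u; simp [hL]; omega
    rw [Finset.sum_congr rfl this]
    rfl
  have hMc : M.card = 10626 := by rw [hM, card_weight_eq, hC.len]; rfl
  set fL := fun q => (L.filter (fun u => cls u = q)).card with hfL
  set fM := fun q => (M.filter (fun u => cls u = q)).card with hfM
  have hq : ∀ q, 6 * fL q + fM q ≤ 6 := by
    intro q
    have hL1 : fL q ≤ 1 := by
      rw [hfL, Finset.card_le_one]
      intro u hu v hv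
      simp [hL] at hu hv
      rcases eq_or_disjoint_of_same_coset hC ((hcls u v).1 (hu.2.trans hv.2.symm)) (by omega) (by omega) with h | h
      · exact h
      · omega
    have hM6 : fM q ≤ 6 := by
      have hd : Set.PairwiseDisjoint ((M.filter (fun u => cls u = q) : Finset _) : Set (α → ZMod 2))
          Cfsg.support₂ := by
        intro u hu v hv hne
        simp [hM] at hu hv
        rcases eq_or_disjoint_of_same_coset hC ((hcls u v).1 (hu.2.trans hv.2.symm)) (by omega) (by omega) with h | h
        · exact absurd h hne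
        · exact h.2.2
      have h := Finset.card_le_univ ((M.filter (fun u => cls u = q)).biUnion Cfsg.support₂)
      rw [Finset.card_biUnion hd, Finset.sum_congr rfl (g := fun _ => 4) (fun u hu => by
        simp [hM] at hu; rw [card_support₂]; exact hu.1), Finset.sum_const, smul_eq_mul, hC.len] at h
      show (M.filter (fun u => cls u = q)).card ≤ 6
      omega
    by_cases h0 : fL q = 0
    · omega
    · have : fM q = 0 := by
        obtain ⟨u, hu⟩ := Finset.card_pos.1 (Nat.pos_of_ne_zero h0)
        rw [hfM, Finset.card_eq_zero, Finset.eq_empty_iff_forall_notMem]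
        intro v hv
        simp [hL] at hu
        simp [hM] at hv
        rcases eq_or_disjoint_of_same_coset hC ((hcls u v).1 (hu.2.trans hv.2.symm)) (by omega) (by omega) with h | h
        · rw [h] at hu; omega
        · omega
      omega
  have hqc : Fintype.card ((α → ZMod 2) ⧸ C) = 4096 := by
    rw [Module.card_eq_pow_finrank (K := ZMod 2), Submodule.finrank_quotient,
      Module.finrank_fintype_fun_eq_card, hC.len, hC.dim, ZMod.card]
    norm_num
  have htot : ∑ q, (6 * fL q + fM q) = ∑ _q : (α → ZMod 2) ⧸ C, 6 := by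
    rw [Finset.sum_add_distrib, ← Finset.mul_sum]
    simp only [hfL, hfM]
    rw [← Finset.card_eq_sum_card_fiberwise (f := cls) (fun u _ => Finset.mem_univ _),
      ← Finset.card_eq_sum_card_fiberwise (f := cls) (fun u _ => Finset.mem_univ _),
      hLc, hMc, Finset.sum_const, Finset.card_univ, hqc]
    norm_num
  have heq := (Finset.sum_eq_sum_iff_of_le (fun q _ => hq q)).1 htot (cls w) (Finset.mem_univ _)
  have hset : {u : α → ZMod 2 | u - w ∈ C ∧ hammingNorm u ≤ 4} =
      ↑(L.filter (fun u => cls u = cls w) ∪ M.filter (fun u => cls u = cls w)) := by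
    ext u
    simp only [hL, hM, Set.mem_setOf_eq, Finset.coe_union, Set.mem_union, Finset.mem_coe,
      Finset.mem_filter, Finset.mem_univ, true_and, hcls]
    constructor
    · rintro ⟨h1, h2⟩
      rcases Nat.lt_or_ge (hammingNorm u) 4 with h | h
      · exact Or.inl ⟨by omega, h1⟩
      · exact Or.inr ⟨by omega, h1⟩
    · rintro (⟨h2, h1⟩ | ⟨h2, h1⟩) <;> exact ⟨h1, by omega⟩
  rw [hset]
  rcases Nat.eq_zero_or_pos (fL (cls w)) with h0 | h0
  · right
    have hM6 : fM (cls w) = 6 := by omega
    rw [hfL, Finset.card_eq_zero] at h0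
    rw [h0, Finset.empty_union, Set.ncard_coe_finset]
    refine ⟨hM6, fun u hu => ?_⟩
    simp [hM] at hu
    refine ⟨hu.1, fun v hv hne => ?_⟩
    simp [hM] at hv
    rcases eq_or_disjoint_of_same_coset hC ((hcls u v).1 (hu.2.trans hv.2.symm)) (by omega) (by omega) with h | h
    · exact absurd h hne
    · exact h.2.2
  · left
    have h1 : fL (cls w) = 1 := by omega
    have h2 : fM (cls w) = 0 := by omega
    rw [hfL, Finset.card_eq_one] at h1
    obtain ⟨u, hu⟩ := h1
    rw [hfM, Finset.card_eq_zero] at h2
    refine ⟨u, by rw [hu, h2, Finset.union_empty, Finset.coe_singleton], ?_⟩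
    have := hu.symm ▸ Finset.mem_singleton_self u
    simp [hL] at this
    exact this.1

/-- the code is spanned by its words of weight eight -/
theorem span_octads (hC : IsGolay C) :
    Submodule.span (ZMod 2) {w : α → ZMod 2 | w ∈ C ∧ hammingNorm w = 8} = C := by
  classical
  set D := Submodule.span (ZMod 2) {w : α → ZMod 2 | w ∈ C ∧ hammingNorm w = 8} with hD
  have hDC : D ≤ C := Submodule.span_le.2 fun w hw => hw.1
  have hperp : ∀ v : α → ZMod 2, (∀ w ∈ D, ∑ i, v i * w i = 0) → v ∈ C := by
    intro v hv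
    obtain ⟨u, hu, hu4⟩ : ∃ u, u - v ∈ C ∧ hammingNorm u ≤ 4 := by
      rcases coset_leaders hC v with ⟨u, hu, -⟩ | ⟨h, -⟩
      · exact ⟨u, (hu.symm ▸ Set.mem_singleton u : u ∈ {u : α → ZMod 2 | u - v ∈ C ∧ hammingNorm u ≤ 4})⟩
      · obtain ⟨u, hu⟩ := Set.nonempty_of_ncard_ne_zero (by omega :
          {u : α → ZMod 2 | u - v ∈ C ∧ hammingNorm u ≤ 4}.ncard ≠ 0)
        exact ⟨u, hu⟩
    suffices u = 0 by
      subst this
      simpa using C.neg_mem hu
    by_contra hne
    have hB := octads_steiner hC
    have hdot : ∀ b ∈ Cfsg.wordsOfWeight (C : Set (α → ZMod 2)) 8,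
        ((Cfsg.support₂ u ∩ b).card : ZMod 2) = 0 := by
      rintro _ ⟨⟨w, hw, rfl⟩, h8⟩
      have h1 : ∑ i, u i * w i = 0 := by
        have := hC.orth _ hu w hw
        simp only [Pi.sub_apply, sub_mul, Finset.sum_sub_distrib] at this
        rw [hv w (Submodule.subset_span ⟨hw, h8⟩), sub_zero] at this
        exact this
      rw [← h1, Finset.card_eq_sum_ones, Nat.cast_sum, Nat.cast_one]
      rw [← Finset.sum_subset (Finset.subset_univ (Cfsg.support₂ u ∩ Cfsg.support₂ w))]
      · refine Finset.sum_congr rfl fun i hi => ?_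
        simp [Cfsg.support₂] at hi
        simp [zmod_two_eq_one hi.1, zmod_two_eq_one hi.2]
      · intro i _ hi
        simp [Cfsg.support₂] at hi
        by_cases h : u i = 0
        · simp [h]
        · simp [hi h]
    have hu1 : 1 ≤ (Cfsg.support₂ u).card := by
      rw [card_support₂, Nat.one_le_iff_ne_zero, ne_eq, hammingNorm_eq_zero]
      exact hne
    rw [← card_support₂] at hu4
    obtain ⟨b, hb, hodd⟩ : ∃ b ∈ Cfsg.wordsOfWeight (C : Set (α → ZMod 2)) 8,
        (Cfsg.support₂ u ∩ b).card % 2 = 1 := by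
      rcases Nat.mod_two_eq_zero_or_one (Cfsg.support₂ u).card with he | ho
      · obtain ⟨a, ha⟩ := Finset.card_pos.1 hu1
        have hc := Finset.card_erase_of_mem ha
        have hins := Finset.insert_erase ha
        have hlt : (SteinerCount.blocksThrough (Cfsg.wordsOfWeight (C : Set (α → ZMod 2)) 8)
            (insert a ((Cfsg.support₂ u).erase a))).card <
            (SteinerCount.blocksThrough (Cfsg.wordsOfWeight (C : Set (α → ZMod 2)) 8)
            ((Cfsg.support₂ u).erase a)).card := by
          rw [hins, SteinerCount.card_blocksThrough_five_eight hC.len hB _ (by omega),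
            SteinerCount.card_blocksThrough_five_eight hC.len hB _ (by omega), hc]
          rcases (show (Cfsg.support₂ u).card = 2 ∨ (Cfsg.support₂ u).card = 4 by omega) with h | h <;>
            rw [h] <;> decide
        obtain ⟨b, hb, hsub, hab⟩ := SteinerCount.exists_block_through_avoiding _ a hlt
        refine ⟨b, hb, ?_⟩
        have : Cfsg.support₂ u ∩ b = (Cfsg.support₂ u).erase a := by
          ext i
          simp only [Finset.mem_inter, Finset.mem_erase]
          refine ⟨fun h => ⟨?_, h.1⟩, fun h => ⟨h.2, hsub (Finset.mem_erase.2 h)⟩⟩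
          rintro rfl
          exact hab h.2
        rw [this, hc]
        omega
      · obtain ⟨s, hs, hs5⟩ : ∃ s, Cfsg.support₂ u ⊆ s ∧ s.card = 5 :=
          Finset.exists_superset_card_eq (by omega) (by rw [hC.len]; omega)
        obtain ⟨b, ⟨hb, hsb⟩, -⟩ := hB.2 s hs5
        refine ⟨b, hb, ?_⟩
        rw [Finset.inter_eq_left.2 (hs.trans hsb)]
        exact ho
    have := (ZMod.natCast_eq_zero_iff _ 2).1 (hdot b hb)
    omega
  set e := dotProductEquiv (ZMod 2) α with he
  have h1 : D.dualAnnihilator ≤ C.map e.toLinearMap := by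
    intro f hf
    refine ⟨e.symm f, hperp _ fun w hw => ?_, e.apply_symm_apply f⟩
    have h2 : e (e.symm f) w = 0 := by
      rw [e.apply_symm_apply]
      exact (Submodule.mem_dualAnnihilator f).1 hf w hw
    exact h2
  have h3 := Submodule.finrank_mono h1
  rw [LinearEquiv.finrank_map_eq, hC.dim] at h3
  have h4 := Subspace.finrank_add_finrank_dualAnnihilator_eq D
  rw [Module.finrank_fintype_fun_eq_card, hC.len] at h4
  refine Submodule.eq_of_le_of_finrank_le hDC ?_
  rw [hC.dim]
  omega

end CfsgLib.Combin.AbstractGolay
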